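import Cfsg.Agent.MonsterFi58.Data
import Cfsg.Agent.SporStruct.CoPacked
import Cfsg.Agent.Four95.Checks

/-!
Computations with five elements of the centralizer and their action on six coordinates modulo three.
-/

set_option autoImplicit false
set_option maxRecDepth 1000000

namespace Cfsg.Agent.MonsterFi58

open Cfsg.Agent.SporStruct.CoMatrix
open Cfsg.Agent.Four95 (dig negC dotN vecs)

/-- An inner product, divided by eight. -/
def ipL (a b : List ℤ) : ℤ := dotL a b / 8

/-- One of the six vectors. -/
def fL (i : ℕ) : List ℤ := frmT.getD i []

/-- Six residues as a code. -/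
def encode (f : ℕ → ℕ) : ℕ :=
  f 0 + 3 * f 1 + 9 * f 2 + 27 * f 3 + 81 * f 4 + 243 * f 5

/-- The residues of a vector, as a code. -/
def phiN (v : List ℤ) : ℕ := encode fun i => ((-(ipL v (fL i))) % 3).toNat

/-- The columns of the action of a table. -/
def colsOf (T : List (List ℤ)) : List ℕ := (List.range 6).map fun k => phiN (mapV T (fL k))

/-- The image of a code under columns. -/
def imgC (M : List ℕ) (c : ℕ) : ℕ :=
  encode fun i => (dig (M.getD 0 0) i * dig c 0 + dig (M.getD 1 0) i * dig c 1 + dig (M.getD 2 0) i * dig c 2 +
    dig (M.getD 3 0) i * dig c 3 + dig (M.getD 4 0) i * dig c 4 + dig (M.getD 5 0) i * dig c 5) % 3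

/-- The image of a code under a reflection of norm one. -/
def reflN (v u : ℕ) : ℕ := encode fun i => (dig u i + dotN u v * dig v i) % 3

/-- One of the elements. -/
def elL (j : ℕ) : List (List ℤ) := elT.getD j []

theorem frame_check : ((List.range 6).all fun k => phiN (fL k) == 3 ^ k) = true := by decide +kernel

theorem gram_check : ((List.range 12).all fun i => (List.range 12).all fun j =>
    decide ((ipL (basT.getD i []) (basT.getD j []) +
      dotN (phiN (basT.getD i [])) (phiN (basT.getD j []))) % 3 = 0)) = true := by
  decide +kernel

theorem el_map0 : (checkMap (elL 0) && checkMap (transpL (elL 0))) = true := by decide +kernel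
theorem el_map1 : (checkMap (elL 1) && checkMap (transpL (elL 1))) = true := by decide +kernel
theorem el_map2 : (checkMap (elL 2) && checkMap (transpL (elL 2))) = true := by decide +kernel
theorem el_map3 : (checkMap (elL 3) && checkMap (transpL (elL 3))) = true := by decide +kernel
theorem el_map4 : (checkMap (elL 4) && checkMap (transpL (elL 4))) = true := by decide +kernel

theorem el_length : elT.length = 5 := by decide +kernel

theorem el_comm : ((List.range 5).all fun j =>
    mulP (packT (elL j)) (permMat sigTab) == mulP (packT (permMat sigTab)) (elL j)) = true := by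
  decide +kernel

theorem tau_check : colsOf (elL 0) == [1, 3, 9, 27, 81, 243] &&
    (let v := basT.getD 0 []
     let a := mapV (elL 0) v
     let b := mapV (elL 0) a
     let ng := fun w : List ℤ => w.map fun x => -x
     decide [v, ng v, a, ng a, b, ng b].Nodup) = true := by
  decide +kernel

theorem refl_check : ((List.range 126).all fun p =>
    let i := imgC (colsOf (elL 1)) (vecs.getD p 0)
    let w := reflN (vecs.getD rootP 0) (vecs.getD p 0)
    i == w || i == negC w) = true := by
  decide +kernel

/-- The targets are reached from earlier ones. -/
def reach : List ℕ → List (ℕ × ℕ × ℕ) → List ℕ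
  | L, [] => L
  | L, (t, s, j) :: r =>
    if L.contains s && decide (j < 3) &&
      (imgC (colsOf (elL (j + 2))) (vecs.getD s 0) == vecs.getD t 0 ||
        imgC (colsOf (elL (j + 2))) (vecs.getD s 0) == negC (vecs.getD t 0))
    then reach (t :: L) r else L

theorem reach_check : ((List.range 126).all fun p => (reach [rootP] treeT).contains p) = true ∧
    rootP < 126 := by
  decide +kernel

end Cfsg.Agent.MonsterFi58
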