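import Cfsg.Agent.MonsterFi58.Bound
import Cfsg.Agent.MonsterFi58.Checks
import Cfsg.Agent.Four95.OmegaModel

/-!
The action of the centralizer on six coordinates modulo three and on the 126 vectors of norm one:
its image is the reflection group and its kernel has eighteen elements.
-/

set_option autoImplicit false
set_option maxRecDepth 100000

namespace Cfsg.Agent.MonsterFi58

open Cfsg Cfsg.Agent.Leech Cfsg.Agent.Reflections Cfsg.Agent.Four95 Matrix
open Cfsg.Agent.SporStruct CoMatrix
open Cfsg.Agent.Golay (pt idx idx_lt pt_idx idx_pt)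

/-- The inner product, divided by eight. -/
noncomputable def ip (v w : leechLattice) : ℤ := dotInt (v : GolayPt → ℤ) (w : GolayPt → ℤ) / 8

theorem ip_eq (v w : leechLattice) : 8 * ip v w = dotInt (v : GolayPt → ℤ) (w : GolayPt → ℤ) :=
  Int.mul_ediv_cancel' (eight_dvd_dotInt v.2 w.2)

theorem ip_comm (v w : leechLattice) : ip v w = ip w v := by rw [ip, ip, dotInt_comm]

theorem ip_add_left (u v w : leechLattice) : ip (u + v) w = ip u w + ip v w := by
  have h1 := ip_eq u w
  have h2 := ip_eq v w
  have h3 := ip_eq (u + v) w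
  rw [AddSubgroup.coe_add, Cfsg.dotInt_add_left] at h3
  omega

theorem ip_smul (g : Co0) (v w : leechLattice) : ip (g • v) (g • w) = ip v w := by
  rw [ip, ip, dotInt_smul]

theorem ip_vecL (v w : leechLattice) :
    ip v w = ipL (vecL (v : GolayPt → ℤ)) (vecL (w : GolayPt → ℤ)) := by
  rw [ip, ipL, LeechUnitary.Cert.dotInt_vecL]

/-- The residues of a vector. -/
noncomputable def phi (v : leechLattice) : Fin 6 → ZMod 3 := fun i => ((-(ip v (fv i)) : ℤ) : ZMod 3)

theorem phi_add (u v : leechLattice) : phi (u + v) = phi u + phi v := by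
  funext i
  simp only [phi, Pi.add_apply, ip_add_left]
  push_cast
  ring

theorem dig_encode (f : ℕ → ℕ) (hf : ∀ i < 6, f i < 3) {i : ℕ} (hi : i < 6) :
    dig (encode f) i = f i := by
  have := hf 0 (by omega); have := hf 1 (by omega); have := hf 2 (by omega)
  have := hf 3 (by omega); have := hf 4 (by omega); have := hf 5 (by omega)
  interval_cases i <;> simp only [dig, encode] <;> omega

theorem toVec_encode (f : ℕ → ℕ) (hf : ∀ i < 6, f i < 3) (i : Fin 6) :
    toVec (encode f) i = (f i : ZMod 3) := by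
  rw [toVec, dig_encode f hf i.2]

theorem toNat_emod_lt (a : ℤ) : (a % 3).toNat < 3 := by omega

theorem phi_eq (v : leechLattice) : phi v = toVec (phiN (vecL (v : GolayPt → ℤ))) := by
  funext i
  rw [phiN, toVec_encode _ (fun j _ => toNat_emod_lt _)]
  simp only [phi, ip_vecL, vecL_fv, fL]
  conv_rhs => rw [← Int.cast_natCast, Int.toNat_of_nonneg (Int.emod_nonneg _ (by norm_num))]
  exact (ZMod.intCast_mod _ 3).symm

theorem phi_fv (k : Fin 6) : phi (fv k) = Pi.single k 1 := by
  have h := List.all_eq_true.1 frame_check k (List.mem_range.2 k.2)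
  rw [beq_iff_eq] at h
  rw [phi_eq, vecL_fv]
  change toVec (phiN (fL k)) = _
  rw [h]
  revert k; decide

/-- The defect of the residues from preserving products. -/
noncomputable def defect (w : leechLattice) : leechLattice →+ ZMod 3 :=
  AddMonoidHom.mk' (fun v => (ip v w : ZMod 3) + phi v ⬝ᵥ phi w) fun u v => by
    simp only [ip_add_left, phi_add, add_dotProduct]
    push_cast
    ring

theorem defect_comm (v w : leechLattice) : defect w v = defect v w := by
  show (ip v w : ZMod 3) + _ = (ip w v : ZMod 3) + _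
  rw [ip_comm, dotProduct_comm]

theorem defect_zero {v w : leechLattice} (hv : IsFix v) (hw : IsFix w) : defect w v = 0 := by
  have hb : ∀ i j, defect (bv j) (bv i) = 0 := by
    intro i j
    show (ip (bv i) (bv j) : ZMod 3) + _ = 0
    rw [phi_eq, phi_eq, dot_toVec, ip_vecL, vecL_bv, vecL_bv]
    have h := List.all_eq_true.1 (List.all_eq_true.1 gram_check i (List.mem_range.2 i.2)) j
      (List.mem_range.2 j.2)
    rw [decide_eq_true_eq] at h
    rw [← Int.cast_natCast (dotN _ _), ← Int.cast_add, ZMod.intCast_zmod_eq_zero_iff_dvd]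
    omega
  have key : ∀ (x : leechLattice), IsFix x → ∀ j, defect (bv j) x = 0 := fun x hx j => by
    rw [expand hx, comb12, map_sum]
    simp [map_zsmul, hb]
  rw [expand hv, comb12, map_sum]
  refine Finset.sum_eq_zero fun i _ => ?_
  rw [map_zsmul, defect_comm, key w hw, smul_zero]

theorem ip_phi {v w : leechLattice} (hv : IsFix v) (hw : IsFix w) :
    (ip v w : ZMod 3) = -(phi v ⬝ᵥ phi w) := eq_neg_of_add_eq_zero_left (defect_zero hv hw)

/-- The matrix of an element. -/
noncomputable def matC (g : Co0) : Matrix (Fin 6) (Fin 6) (ZMod 3) :=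
  Matrix.of fun i k => phi (g • fv k) i

theorem phi_smul (g : C0) {v : leechLattice} (hv : IsFix v) :
    phi ((g : Co0) • v) = matC g *ᵥ phi v := by
  funext i
  have hw : ∀ u, IsFix u → phi ((g : Co0) • u) i = phi u ⬝ᵥ phi ((g : Co0)⁻¹ • fv i) := by
    intro u hu
    have e : ip ((g : Co0) • u) (fv i) = ip u ((g : Co0)⁻¹ • fv i) := by
      rw [← ip_smul (g : Co0) u, smul_inv_smul]
    show ((-(ip ((g : Co0) • u) (fv i)) : ℤ) : ZMod 3) = _
    rw [e, Int.cast_neg, ip_phi hu ((fix_fv i).smul (inv_mem g.2)), neg_neg]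
  rw [hw v hv, Matrix.mulVec, dotProduct, dotProduct]
  refine Finset.sum_congr rfl fun k _ => ?_
  rw [matC, Matrix.of_apply, hw _ (fix_fv k), phi_fv, single_dotProduct, one_mul, mul_comm]

/-- The matrices, as a homomorphism. -/
noncomputable def matHom : C0 →* Matrix (Fin 6) (Fin 6) (ZMod 3) where
  toFun g := matC g
  map_one' := by
    ext i k
    rw [OneMemClass.coe_one, matC, Matrix.of_apply, one_smul, phi_fv, Matrix.one_apply, Pi.single_apply]
  map_mul' g h := by
    ext i k
    rw [Subgroup.coe_mul, matC, Matrix.of_apply, mul_smul, phi_smul g ((fix_fv k).smul h.2)]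
    rfl

/-- A vector with given residues. -/
noncomputable def liftV (x : Fin 6 → ZMod 3) : leechLattice := ∑ k, ((x k).val : ℤ) • fv k

theorem fix_liftV (x : Fin 6 → ZMod 3) : IsFix (liftV x) :=
  isFix_of_apply fun p => by
    simp only [liftV, AddSubgroup.val_finsetSum, Finset.sum_apply, AddSubgroup.coe_zsmul, Pi.smul_apply]
    exact Finset.sum_congr rfl fun i _ => by rw [(fix_fv i).apply p]

theorem phi_liftV (x : Fin 6 → ZMod 3) : phi (liftV x) = x := by
  let Φ : leechLattice →+ (Fin 6 → ZMod 3) := AddMonoidHom.mk' phi phi_add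
  show Φ _ = x
  rw [liftV, map_sum]
  have h : ∀ k, Φ (((x k).val : ℤ) • fv k) = Pi.single k (x k) := fun k => by
    rw [map_zsmul, show Φ (fv k) = Pi.single k 1 from phi_fv k, ← Pi.single_smul]
    congr 1
    rw [zsmul_eq_mul, mul_one, Int.cast_natCast, ZMod.natCast_zmod_val]
  simp only [h]
  exact Finset.univ_sum_single x

theorem matHom_preserves (g : C0) (x : Fin 6 → ZMod 3) : Q6 (matHom g *ᵥ x) = Q6 x := by
  have hv := fix_liftV x
  rw [← phi_liftV x]
  show Q6 (matC g *ᵥ _) = _
  rw [← phi_smul g hv, Q6_apply, Q6_apply]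
  have h1 := ip_phi (hv.smul g.2) (hv.smul g.2)
  have h2 := ip_phi hv hv
  rw [ip_smul, h2] at h1
  exact (neg_inj.1 h1).symm

/-- The centralizer as isometries. -/
noncomputable def rho0 : C0 →* O6 :=
  matHom.toHomUnits.codRestrict _ fun g => mem_isometryGroup Q6 _ fun x => matHom_preserves g x

theorem act_rho0 (g : C0) {v : leechLattice} (hv : IsFix v) :
    act (rho0 g) (phi v) = phi ((g : Co0) • v) := (phi_smul g hv).symm

/-- The centralizer as permutations of 126 points. -/
noncomputable def piP : C0 →* Equiv.Perm (Fin 126) := rho.comp rho0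

theorem toVec_colsOf {g : Co0} {T : List (List ℤ)} (hT : rows g = T) (i k : Fin 6) :
    toVec ((colsOf T).getD k 0) i = matC g i k := by
  rw [matC, Matrix.of_apply, phi_eq, ← mapV_rows, hT, vecL_fv, colsOf,
    List.getD_eq_getElem _ _ (by simp), List.getElem_map, List.getElem_range]
  rfl

theorem act_code (g : C0) {T : List (List ℤ)} (hT : rows (g : Co0) = T) (c : ℕ) :
    act (rho0 g) (toVec c) = toVec (imgC (colsOf T) c) := by
  funext i
  rw [imgC, toVec_encode _ (fun j _ => Nat.mod_lt _ (by norm_num)), ZMod.natCast_mod]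
  show (matC g *ᵥ toVec c) i = _
  simp only [Matrix.mulVec, dotProduct, ← toVec_colsOf hT, Fin.sum_univ_six]
  push_cast
  rfl

theorem piP_code (g : C0) {T : List (List ℤ)} (hT : rows (g : Co0) = T) {p q : Fin 126}
    (h : imgC (colsOf T) (vecs.getD p 0) = vecs.getD q 0 ∨
      imgC (colsOf T) (vecs.getD p 0) = negC (vecs.getD q 0)) : piP g p = q := by
  refine rho_eq ?_
  show act (rho0 g) (toVec _) = _ ∨ act (rho0 g) (toVec _) = _
  rw [act_code g hT]
  rcases h with h | h <;> rw [h]
  · exact Or.inl rfl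
  · exact Or.inr (toVec_negC (code_data q).1).2

theorem rows_g0 : rows g0 = permMat sigTab := rows_permHom tab_sig

theorem exists_el (j : Fin 5) : ∃ g : C0, rows (g : Co0) = elL j := by
  have h : ∃ g : Co0, rows g = elL j := by
    fin_cases j
    · exact exists_elem (Bool.and_eq_true_iff.1 el_map0).1 (Bool.and_eq_true_iff.1 el_map0).2
    · exact exists_elem (Bool.and_eq_true_iff.1 el_map1).1 (Bool.and_eq_true_iff.1 el_map1).2
    · exact exists_elem (Bool.and_eq_true_iff.1 el_map2).1 (Bool.and_eq_true_iff.1 el_map2).2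
    · exact exists_elem (Bool.and_eq_true_iff.1 el_map3).1 (Bool.and_eq_true_iff.1 el_map3).2
    · exact exists_elem (Bool.and_eq_true_iff.1 el_map4).1 (Bool.and_eq_true_iff.1 el_map4).2
  obtain ⟨g, hg⟩ := h
  have hc := List.all_eq_true.1 el_comm j (List.mem_range.2 j.2)
  rw [beq_iff_eq, ← hg, ← rows_g0, mulP_rows, mulP_rows] at hc
  exact ⟨⟨g, Subgroup.mem_centralizer_singleton_iff.2 (rows_injective hc)⟩, hg⟩

/-- One of the elements of the centralizer. -/
noncomputable def el (j : Fin 5) : C0 := (exists_el j).choose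

theorem rows_el (j : Fin 5) : rows (el j : Co0) = elL j := (exists_el j).choose_spec

theorem piP_refl : piP (el 1) = sigma ⟨rootP, reach_check.2⟩ := by
  refine Equiv.ext fun p => ?_
  set r : Fin 126 := ⟨rootP, reach_check.2⟩
  have h := List.all_eq_true.1 refl_check p (List.mem_range.2 p.2)
  simp only [Bool.or_eq_true, beq_iff_eq] at h
  have hw : act (refl Q6 (vec r)) (vec p) =
      toVec (reflN (vecs.getD rootP 0) (vecs.getD p 0)) := by
    funext i
    rw [act_refl (vec_ne r), vec_norm, inv_one, one_mul, polar_Q6, Pi.sub_apply, Pi.smul_apply,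
      reflN, toVec_encode _ (fun j _ => Nat.mod_lt _ (by norm_num)), ZMod.natCast_mod]
    push_cast
    rw [← dot_toVec, dotProduct_comm]
    show vec p i - (2 * (vec p ⬝ᵥ vec r)) • vec r i = vec p i + (vec p ⬝ᵥ vec r) * vec r i
    rw [smul_eq_mul, show (2 : ZMod 3) = -1 from rfl]
    ring
  have hi := act_code (el 1) (rows_el 1) (vecs.getD p 0)
  show rho (rho0 (el 1)) p = rho (refl Q6 (vec r)) p
  refine rho_eq ?_
  have hpos := rho_spec (refl Q6 (vec r)) p
  rw [hw] at hpos
  show act (rho0 (el 1)) (toVec _) = _ ∨ act (rho0 (el 1)) (toVec _) = _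
  rw [hi]
  rcases h with h | h
  · change toVec (imgC (colsOf (elL 1)) _) = _ ∨ toVec (imgC (colsOf (elL 1)) _) = _
    rw [h]; exact hpos
  · change toVec (imgC (colsOf (elL 1)) _) = _ ∨ toVec (imgC (colsOf (elL 1)) _) = _
    have hlt : reflN (vecs.getD rootP 0) (vecs.getD p 0) < 729 := by
      simp only [reflN, encode]; omega
    rw [h, (toVec_negC hlt).2]
    rcases hpos with e | e
    · exact Or.inr (by rw [e])
    · exact Or.inl (by rw [e, neg_neg])

theorem orbit_root (p : Fin 126) : ∃ g : C0, piP g ⟨rootP, reach_check.2⟩ = p := by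
  have key : ∀ (L : List ℕ) (T : List (ℕ × ℕ × ℕ)),
      (∀ x ∈ L, ∀ hx : x < 126, ∃ g : C0, piP g ⟨rootP, reach_check.2⟩ = ⟨x, hx⟩) →
      (∀ x ∈ L, x < 126) → ∀ x ∈ reach L T, ∀ hx : x < 126,
        ∃ g : C0, piP g ⟨rootP, reach_check.2⟩ = ⟨x, hx⟩ := by
    intro L T
    induction T generalizing L with
    | nil => exact fun h _ x hx => h x hx
    | cons a T ih =>
      obtain ⟨t, s, j⟩ := a
      intro h hL x hx
      simp only [reach] at hx
      split_ifs at hx with hc
      swap
      · exact h x hx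
      simp only [Bool.and_eq_true, List.contains_iff_mem, decide_eq_true_eq, Bool.or_eq_true,
        beq_iff_eq] at hc
      obtain ⟨⟨hs, hj⟩, hi⟩ := hc
      have hs' := hL s hs
      by_cases ht : t < 126
      · refine ih (t :: L) (fun y hy hy' => ?_) (fun y hy => ?_) x hx
        · rcases List.mem_cons.1 hy with rfl | hy
          · obtain ⟨g, hg⟩ := h s hs hs'
            refine ⟨el ⟨j + 2, by omega⟩ * g, ?_⟩
            rw [map_mul, Equiv.Perm.mul_apply, hg]
            exact piP_code _ (rows_el _) hi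
          · exact h y hy hy'
        · rcases List.mem_cons.1 hy with rfl | hy
          exacts [ht, hL y hy]
      · exfalso
        have e : vecs.getD t 0 = 0 := by
          rw [List.getD_eq_default]
          have : vecs.length = 126 := by decide +kernel
          omega
        rw [e, show negC 0 = 0 by decide +kernel, or_self] at hi
        have hv : act (rho0 (el ⟨j + 2, by omega⟩)) (vec ⟨s, hs'⟩) = 0 := by
          show act _ (toVec _) = 0
          rw [act_code _ (rows_el _), show imgC (colsOf (elL (⟨j + 2, by omega⟩ : Fin 5))) _ = 0 from hi]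
          decide +kernel
        have := act_Q (rho0 (el ⟨j + 2, by omega⟩)) (vec ⟨s, hs'⟩)
        rw [hv, QuadraticMap.map_zero, vec_norm] at this
        exact absurd this (by decide)
  have hp := List.all_eq_true.1 reach_check.1 p (List.mem_range.2 p.2)
  rw [List.contains_iff_mem] at hp
  refine key [rootP] treeT ?_ (by simp [reach_check.2]) p hp p.2
  intro x hx hx'
  rw [List.mem_singleton] at hx
  subst hx
  exact ⟨1, by rw [map_one]; rfl⟩

theorem RI_le_range : RI ≤ piP.range := by
  rw [RI_eq]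
  refine (Subgroup.closure_le _).2 (Set.range_subset_iff.2 fun p => ?_)
  obtain ⟨g, hg⟩ := orbit_root p
  refine ⟨g * el 1 * g⁻¹, ?_⟩
  rw [map_mul, map_mul, map_inv, piP_refl, ← hg]
  exact sigma_conj (rho0 g) _

/-- The negative of the identity. -/
noncomputable def negC0 : C0 :=
  ⟨negOne, Subgroup.mem_centralizer_singleton_iff.2 ((Subgroup.mem_center_iff.1 negOne_mem_center g0).symm)⟩

/-- The element, in its centralizer. -/
noncomputable def g0C : C0 := ⟨g0, Subgroup.mem_centralizer_singleton_iff.2 rfl⟩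

theorem piP_negC0 : piP negC0 = 1 := by
  refine Equiv.ext fun p => rho_eq (Or.inr ?_)
  show act (rho0 negC0) (vec p) = -vec p
  rw [← phi_liftV (vec p), act_rho0 _ (fix_liftV _)]
  show phi (negOne • liftV (vec p)) = _
  rw [negOne_smul]
  exact (AddMonoidHom.mk' phi phi_add).map_neg _

theorem piP_g0C : piP g0C = 1 := by
  refine Equiv.ext fun p => rho_eq (Or.inl ?_)
  show act (rho0 g0C) (vec p) = vec p
  rw [← phi_liftV (vec p), act_rho0 _ (fix_liftV _)]
  exact congrArg phi (fix_liftV (vec p))

theorem piP_tau : piP (el 0) = 1 := by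
  have e : matC (el 0 : Co0) = 1 := by
    ext i k
    rw [← toVec_colsOf (rows_el 0)]
    have h := (Bool.and_eq_true_iff.1 tau_check).1
    rw [beq_iff_eq] at h
    show toVec ((colsOf (elL 0)).getD k 0) i = _
    rw [h, Matrix.one_apply]
    have hd : ∀ i k : Fin 6, toVec ([1, 3, 9, 27, 81, 243].getD (k : ℕ) 0) i =
        if i = k then (1 : ZMod 3) else 0 := by decide +kernel
    exact hd i k
  refine Equiv.ext fun p => rho_eq (Or.inl ?_)
  show matC (el 0 : Co0) *ᵥ vec p = vec p
  rw [e, Matrix.one_mulVec]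

/-- The six images of a vector. -/
noncomputable def sixImg (j : Fin 3) (ε : Bool) : leechLattice :=
  if ε then -(((el 0 : Co0) ^ (j : ℕ)) • bv 0) else ((el 0 : Co0) ^ (j : ℕ)) • bv 0

theorem sixImg_inj : ∀ j k : Fin 3, ∀ e d : Bool, sixImg j e = sixImg k d → j = k ∧ e = d := by
  have h := (Bool.and_eq_true_iff.1 tau_check).2
  simp only [decide_eq_true_eq] at h
  have hneg : ∀ u : leechLattice, vecL ((-u : leechLattice) : GolayPt → ℤ) =
      (vecL (u : GolayPt → ℤ)).map fun x => -x := fun u => by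
    simp [vecL, List.map_map, Function.comp_def]
  have e0 : vecL ((((el 0 : Co0) ^ ((0 : Fin 3) : ℕ)) • bv 0 : leechLattice) : GolayPt → ℤ) =
      basT.getD 0 [] := by
    rw [Fin.val_zero, pow_zero, one_smul, vecL_bv]; rfl
  have e1 : vecL ((((el 0 : Co0) ^ ((1 : Fin 3) : ℕ)) • bv 0 : leechLattice) : GolayPt → ℤ) =
      mapV (elL 0) (basT.getD 0 []) := by
    rw [Fin.val_one, pow_one, ← mapV_rows, rows_el, vecL_bv]; rfl
  have e2 : vecL ((((el 0 : Co0) ^ ((2 : Fin 3) : ℕ)) • bv 0 : leechLattice) : GolayPt → ℤ) =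
      mapV (elL 0) (mapV (elL 0) (basT.getD 0 [])) := by
    rw [Fin.val_two, pow_two, mul_smul, ← mapV_rows, rows_el, ← mapV_rows, rows_el, vecL_bv]; rfl
  set v0 := basT.getD 0 []
  set v1 := mapV (elL 0) v0
  set v2 := mapV (elL 0) v1
  let L : List (List ℤ) := [v0, v0.map fun x => -x, v1, v1.map fun x => -x, v2, v2.map fun x => -x]
  let ix : Fin 3 → Bool → Fin 6 := fun j e => ⟨2 * (j : ℕ) + if e then 1 else 0, by split_ifs <;> omega⟩
  have hL : L.length = 6 := rfl
  have key : ∀ j e, vecL ((sixImg j e : leechLattice) : GolayPt → ℤ) =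
      L[(ix j e : ℕ)]'(hL.symm ▸ (ix j e).2) := by
    intro j e
    have hj : j = 0 ∨ j = 1 ∨ j = 2 := by revert j; decide
    rcases hj with rfl | rfl | rfl <;> cases e <;>
      simp only [sixImg, Bool.false_eq_true, if_false, if_true, hneg, e0, e1, e2] <;> rfl
  intro j k e d hh
  have h' := congrArg (fun u : leechLattice => vecL (u : GolayPt → ℤ)) hh
  simp only [key] at h'
  have hi : ix j e = ix k d := Fin.ext ((List.Nodup.getElem_inj_iff h).1 h')
  have hi' : 2 * (j : ℕ) + (if e then 1 else 0) = 2 * (k : ℕ) + if d then 1 else 0 :=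
    congrArg Fin.val hi
  refine ⟨Fin.ext ?_, ?_⟩ <;> cases e <;> cases d <;> simp at hi' ⊢ <;> omega

/-- A kernel element from three exponents. -/
noncomputable def kerEl (x : Fin 3 × Fin 3 × Bool) : C0 :=
  g0C ^ (x.1 : ℕ) * el 0 ^ (x.2.1 : ℕ) * if x.2.2 then negC0 else 1

theorem kerEl_mem (x : Fin 3 × Fin 3 × Bool) : kerEl x ∈ piP.ker := by
  rw [MonoidHom.mem_ker, kerEl, map_mul, map_mul, map_pow, map_pow, piP_g0C, piP_tau, one_pow,
    one_pow, one_mul, one_mul]
  split_ifs
  exacts [piP_negC0, map_one _]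

theorem orderOf_g0 : orderOf g0 = 3 := by
  have : Fact (Nat.Prime 3) := ⟨Nat.prime_three⟩
  refine orderOf_eq_prime (by rw [pow_succ, pow_two, mul_assoc]; exact g0_cube) fun h => ?_
  have e := congrArg rows h
  rw [rows_g0, rows_one] at e
  revert e; decide +kernel

theorem kerEl_smul (x : Fin 3 × Fin 3 × Bool) :
    (kerEl x : Co0) • bv 0 = sixImg x.2.1 x.2.2 := by
  have hi : ∀ n : ℕ, ∀ v, IsFix v → (g0 ^ n) • v = v := by
    intro n v hv
    induction n with
    | zero => rw [pow_zero, one_smul]
    | succ n ih => rw [pow_succ, mul_smul, show g0 • v = v from hv, ih]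
  obtain ⟨i, j, e⟩ := x
  simp only [kerEl, Subgroup.coe_mul, SubmonoidClass.coe_pow, mul_smul, sixImg, g0C]
  cases e
  · simp only [Bool.false_eq_true, if_false, OneMemClass.coe_one, one_smul]
    exact hi _ _ ((fix_bv 0).smul (pow_mem (el 0).2 _))
  · simp only [if_true, negC0, negOne_smul, smul_neg']
    rw [hi _ _ ((fix_bv 0).smul (pow_mem (el 0).2 _))]

theorem kerEl_injective : Function.Injective kerEl := by
  intro x y h
  have h2 := kerEl_smul x
  rw [h, kerEl_smul] at h2
  obtain ⟨hj, he⟩ := sixImg_inj _ _ _ _ h2.symm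
  obtain ⟨i, j, e⟩ := x
  obtain ⟨i', j', e'⟩ := y
  simp only at hj he
  subst hj he
  simp only [kerEl, mul_left_inj] at h
  have h3 : g0 ^ (i : ℕ) = g0 ^ (i' : ℕ) := congrArg Subtype.val h
  rw [pow_inj_mod, orderOf_g0, Nat.mod_eq_of_lt i.2, Nat.mod_eq_of_lt i'.2] at h3
  rw [Fin.ext h3]

theorem card_facts : piP.range = RI ∧ Nat.card piP.ker = 18 := by
  have : Finite Co0 := Monster39.finiteCo0
  have h1 : Nat.card piP.range * Nat.card piP.ker = Nat.card C0 := by
    rw [← Nat.card_congr (QuotientGroup.quotientKerEquivRange piP).toEquiv]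
    exact (Subgroup.card_eq_card_quotient_mul_card_subgroup piP.ker).symm
  have h2 : 6531840 ≤ Nat.card piP.range :=
    card_RI ▸ Nat.card_le_card_of_injective _ (Subgroup.inclusion_injective RI_le_range)
  have h3 : 18 ≤ Nat.card piP.ker := by
    have := Nat.card_le_card_of_injective (fun x => (⟨kerEl x, kerEl_mem x⟩ : piP.ker))
      fun x y h => kerEl_injective (congrArg Subtype.val h)
    simpa using this
  have h4 := card_C0_le
  rw [← h1] at h4
  constructor
  · refine (Subgroup.eq_of_le_of_card_ge RI_le_range ?_).symm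
    rw [card_RI]
    by_contra hlt
    have := Nat.mul_le_mul (show 6531841 ≤ Nat.card piP.range by omega) h3
    omega
  · refine le_antisymm ?_ h3
    by_contra hlt
    have := Nat.mul_le_mul h2 (show 19 ≤ Nat.card piP.ker by omega)
    omega

theorem exists_kerEl {g : C0} (h : piP g = 1) : ∃ x, kerEl x = g := by
  have : Finite Co0 := Monster39.finiteCo0
  have hb : Function.Bijective fun x => (⟨kerEl x, kerEl_mem x⟩ : piP.ker) :=
    (Nat.bijective_iff_injective_and_card _).2
      ⟨fun x y h => kerEl_injective (congrArg Subtype.val h), by rw [card_facts.2]; simp⟩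
  obtain ⟨x, hx⟩ := hb.2 ⟨g, h⟩
  exact ⟨x, congrArg Subtype.val hx⟩

end Cfsg.Agent.MonsterFi58
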