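import Cfsg.Agent.MonsterFi58.Fix
import Cfsg.Agent.Sporadic96.M24.FixValues

/-!
The centralizer in `M₂₄` of a permutation of order three fixing six points has at most 1080 elements.
-/

set_option autoImplicit false
set_option maxRecDepth 100000

namespace Cfsg.Agent.MonsterFi58

open Cfsg Cfsg.Agent.Golay
open scoped Pointwise

/-- The mask of the six fixed points. -/
def sixN : ℕ := 2 ^ 2 + 2 ^ 6 + 2 ^ 11 + 2 ^ 14 + 2 ^ 15 + 2 ^ 16

theorem six_facts :
    ((List.range 24).all fun i => sixN.testBit i == (sigTab.getD i 0 == i)) = true ∧ popc sixN = 6 ∧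
    ((List.range 4096).all fun m => popc (comb m) != 8 ||
      ((comb m &&& sixN) != sixN && (popc (comb m &&& sixN) != 4 ||
        !(maps sigTab (comb m) (comb m))))) = true := by
  decide +kernel

/-- The six fixed points. -/
def six : Finset GolayPt := toSet sixN

theorem card_six : six.card = 6 := by rw [six, card_toSet, six_facts.2.1]

theorem mem_six {p : GolayPt} : p ∈ six ↔ sigM.1 p = p := by
  have h := List.all_eq_true.1 six_facts.1 (idx p) (List.mem_range.2 (idx_lt p))
  rw [beq_iff_eq] at h
  rw [six, mem_toSet, h, beq_iff_eq, ← idx_injective.eq_iff, tab_sig.apply,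
    idx_pt (tab_sig.lt (idx_lt p))]

theorem octad_not_six {o : Finset GolayPt} (ho : o ∈ octads) :
    ¬ six ⊆ o ∧ (sigM.1 • o = o → (o ∩ six).card ≠ 4) := by
  obtain ⟨n, hn, h8, rfl⟩ := octad_mem_iff.1 ho
  have hlt := inCode_lt hn
  have h := List.all_eq_true.1 six_facts.2.2 (n % 4096) (List.mem_range.2 (Nat.mod_lt _ (by norm_num)))
  rw [inCode, beq_iff_eq] at hn
  simp only [hn, h8, Bool.or_eq_true, bne_iff_ne, ne_eq, not_true_eq_false, false_or,
    Bool.and_eq_true, Bool.not_eq_true'] at h
  refine ⟨fun hsub => h.1 ?_, fun he h4 => ?_⟩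
  · have e : toSet (n &&& sixN) = toSet sixN := by
      rw [← toSet_inter, Finset.inter_eq_right]
      exact hsub
    exact toSet_injOn ((Nat.and_le_left).trans_lt hlt) (by decide) e
  · rw [six, toSet_inter, card_toSet] at h4
    rcases h.2 with h2 | h2
    · exact h2 h4
    · refine Bool.false_ne_true (h2.symm.trans ?_)
      simp only [maps, List.all_eq_true, List.mem_range, beq_iff_eq]
      intro i hi
      rw [Bool.eq_iff_iff]
      have hm : ∀ q, q ∈ toSet n ↔ sigM.1 q ∈ toSet n := fun q => by
        constructor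
        · intro hq
          rw [← he]
          exact Finset.smul_mem_smul_finset hq
        · intro hq
          rw [← he] at hq
          obtain ⟨r, hr, e⟩ := Finset.mem_smul_finset.1 hq
          rwa [← sigM.1.injective e]
      have := hm (pt i)
      simp only [mem_toSet, idx_pt hi, tab_sig i hi] at this
      exact this.symm

/-- An involution fixing a point fixes exactly the points of an octad. -/
theorem fixedPts_octad {t : Equiv.Perm GolayPt} (ht : t ∈ Cfsg.M24) (h2 : orderOf t = 2)
    {p : GolayPt} (hp : t p = p) : fixedPts t ∈ octads := by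
  rcases Sporadic96.exists_rep_two ht h2 with ⟨-, k, hk, r, hr, rfl⟩ | ⟨h0, -⟩
  · have e : fixedPts (k * r * k⁻¹) = k • fixedPts r := by
      ext q
      rw [← Finset.inv_smul_mem_iff, mem_fixedPts, mem_fixedPts, Equiv.Perm.smul_def]
      simp only [Equiv.Perm.mul_apply, Equiv.Perm.coe_inv]
      exact (Equiv.eq_symm_apply k).symm
    have er : fixedPts r = toSet (fixMask inv8Tab) := by
      ext q
      rw [mem_fixedPts, mem_toSet, invol_facts.2.2.2.2.2.2.2.2 ⟨idx q, idx_lt q⟩, beq_iff_eq,
        ← idx_injective.eq_iff, hr.apply, idx_pt (hr.lt (idx_lt q))]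
    rw [e, er]
    exact smul_mem_octads hk (octad_mem_iff.2
      ⟨_, invol_facts.2.2.2.2.2.2.1, invol_facts.2.2.2.2.2.2.2.1, rfl⟩)
  · exfalso
    rw [Finset.card_eq_zero] at h0
    exact Finset.notMem_empty p (h0 ▸ mem_fixedPts.2 hp)

theorem eq_one_of_sq {t : Equiv.Perm GolayPt} (ht : t ∈ Cfsg.M24) (h2 : t * t = 1)
    (h : ∀ p ∈ six, t p = p) : t = 1 := by
  by_contra h1
  have ho : orderOf t = 2 := orderOf_eq_prime (by rw [pow_two, h2]) h1
  obtain ⟨p, hp⟩ : six.Nonempty := Finset.card_pos.1 (by rw [card_six]; norm_num)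
  exact (octad_not_six (fixedPts_octad ht ho (h p hp))).1 fun q hq => mem_fixedPts.2 (h q hq)

/-- The centralizer. -/
abbrev CS : Subgroup M24 := Subgroup.centralizer ({sigM} : Set M24)

theorem CS.comm (t : CS) (p : GolayPt) : (t : M24).1 (sigM.1 p) = sigM.1 ((t : M24).1 p) :=
  congrArg (fun u : M24 => u.1 p) (Subgroup.mem_centralizer_singleton_iff.1 t.2)

theorem CS.mem_iff (t : CS) (p : GolayPt) : (t : M24).1 p ∈ six ↔ p ∈ six := by
  rw [mem_six, mem_six, ← CS.comm, (t : M24).1.injective.eq_iff]

/-- The action on the six fixed points. -/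
def sixAct : CS →* Equiv.Perm six where
  toFun t := (t : M24).1.subtypePerm (CS.mem_iff t)
  map_one' := by ext; rfl
  map_mul' _ _ := by ext; rfl

theorem fix_of_ker {t : CS} (h : sixAct t = 1) (p : GolayPt) (hp : p ∈ six) : (t : M24).1 p = p :=
  congrArg Subtype.val (Equiv.congr_fun h ⟨p, hp⟩)

theorem card_ker : Nat.card sixAct.ker ≤ 3 := by
  classical
  obtain ⟨r, hr⟩ : six.Nonempty := Finset.card_pos.1 (by rw [card_six]; norm_num)
  have h5 : (six.erase r).card = 5 := by rw [Finset.card_erase_of_mem hr, card_six]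
  obtain ⟨o, ho, hsub⟩ := exists_octad h5
  have hro : r ∉ o := fun h => (octad_not_six ho).1 fun q hq => by
    by_cases e : q = r
    · rwa [e]
    · exact hsub (Finset.mem_erase.2 ⟨e, hq⟩)
  set T := o \ six.erase r with hT
  have hTc : T.card = 3 := by rw [hT, Finset.card_sdiff_of_subset hsub, card_of_mem_octads ho, h5]
  have hstab : ∀ k : sixAct.ker, ∀ q ∈ o, (k : CS).1.1 q ∈ o := by
    intro k q hq
    have he : (k : CS).1.1 • o = o := by
      refine octad_unique (smul_mem_octads (k : CS).1.2 ho) ho h5.ge (fun x hx => ?_) hsub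
      rw [← fix_of_ker k.2 x (Finset.mem_of_mem_erase hx), ← Equiv.Perm.smul_def]
      exact Finset.smul_mem_smul_finset (hsub hx)
    rw [← he, ← Equiv.Perm.smul_def]
    exact Finset.smul_mem_smul_finset hq
  have hTmem : ∀ k : sixAct.ker, ∀ q ∈ T, (k : CS).1.1 q ∈ T := by
    intro k q hq
    rw [hT, Finset.mem_sdiff] at hq ⊢
    refine ⟨hstab k q hq.1, fun h => hq.2 ?_⟩
    have e := (k : CS).1.1.injective (fix_of_ker k.2 _ (Finset.mem_of_mem_erase h))
    rwa [e] at h
  obtain ⟨q, hq⟩ : T.Nonempty := Finset.card_pos.1 (by rw [hTc]; norm_num)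
  have key : ∀ k : sixAct.ker, (k : CS).1.1 q = q → k = 1 := by
    intro k hk
    set t := (k : CS).1.1 with ht
    have hf : ∀ p ∈ six, t p = p := fix_of_ker k.2
    have h2 : ∀ x ∈ T, t (t x) = x := by
      intro x hx
      by_cases e : x = q
      · rw [e, hk, hk]
      have hrest : (T.erase q).card = 2 := by rw [Finset.card_erase_of_mem hq, hTc]
      obtain ⟨a, b, hab, hT2⟩ := Finset.card_eq_two.1 hrest
      have hin : ∀ y, y ∈ T.erase q → t y ∈ T.erase q := fun y hy => Finset.mem_erase.2
        ⟨fun h => (Finset.mem_erase.1 hy).1 (t.injective (h.trans hk.symm)),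
          hTmem k y (Finset.mem_of_mem_erase hy)⟩
      have hx' : x = a ∨ x = b := by simpa [hT2] using Finset.mem_erase.2 ⟨e, hx⟩
      have ha : t a = a ∨ t a = b := by simpa [hT2] using hin a (by simp [hT2])
      have hb : t b = a ∨ t b = b := by simpa [hT2] using hin b (by simp [hT2])
      rcases ha with ha | ha <;> rcases hb with hb | hb
      · exact absurd (t.injective (ha.trans hb.symm)) hab
      · rcases hx' with rfl | rfl <;> simp only [ha, hb]
      · rcases hx' with rfl | rfl <;> simp only [ha, hb]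
      · exact absurd (t.injective (ha.trans hb.symm)) hab
    have hsq : t * t = 1 := by
      refine eq_one_of_fixed (Cfsg.M24.mul_mem (k : CS).1.2 (k : CS).1.2) (s := T ∪ six) ?_ ?_
      · rw [Finset.card_union_of_disjoint, hTc, card_six]
        rw [Finset.disjoint_left]
        intro x hx hx6
        rw [hT, Finset.mem_sdiff, Finset.mem_erase] at hx
        by_cases e : x = r
        · exact hro (e ▸ hx.1)
        · exact hx.2 ⟨e, hx6⟩
      · intro x hx
        rw [Equiv.Perm.mul_apply]
        rcases Finset.mem_union.1 hx with hx | hx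
        · exact h2 x hx
        · rw [hf x hx, hf x hx]
    exact Subtype.ext (Subtype.ext (Subtype.ext (eq_one_of_sq (k : CS).1.2 hsq hf)))
  calc Nat.card sixAct.ker ≤ Nat.card T := Nat.card_le_card_of_injective
        (fun k => ⟨(k : CS).1.1 q, hTmem k q hq⟩) fun k l h => by
        refine inv_mul_eq_one.1 (key (k⁻¹ * l) ?_)
        have e : (l : CS).1.1 q = (k : CS).1.1 q := (congrArg Subtype.val h).symm
        show (k : CS).1.1.symm ((l : CS).1.1 q) = q
        rw [e, Equiv.symm_apply_apply]
    _ = 3 := by rw [Nat.card_eq_fintype_card, Fintype.card_coe, hTc]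

theorem range_ne_top : sixAct.range ≠ ⊤ := by
  classical
  intro htop
  obtain ⟨a, b, hab⟩ : ∃ a b : six, a ≠ b := by
    have : 1 < Fintype.card six := by rw [Fintype.card_coe, card_six]; norm_num
    exact Fintype.exists_pair_of_one_lt_card this
  obtain ⟨u, hu⟩ : Equiv.swap a b ∈ sixAct.range := by rw [htop]; trivial
  -- an odd power of `u` is an involution with the same action
  have hk : sixAct (u * u) = 1 := by rw [map_mul, hu, Equiv.swap_mul_self]
  set k : sixAct.ker := ⟨u * u, hk⟩
  have h3 : k ^ 3 = 1 := by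
    have hle := card_ker
    have hpos : 0 < Nat.card sixAct.ker := Nat.card_pos
    have hp := pow_card_eq_one' (x := k)
    have hne : Nat.card sixAct.ker ≠ 2 := by
      intro h2
      obtain ⟨j, hj⟩ := exists_prime_orderOf_dvd_card' (G := sixAct.ker) 2 (hp := ⟨Nat.prime_two⟩)
        (by rw [h2])
      have e : (j : CS).1.1 * (j : CS).1.1 = 1 := by
        have := pow_orderOf_eq_one j
        rw [hj, pow_two] at this
        exact congrArg (fun x : sixAct.ker => (x : CS).1.1) this
      have := eq_one_of_sq (j : CS).1.2 e (fix_of_ker j.2)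
      have e1 : j = 1 := Subtype.ext (Subtype.ext (Subtype.ext this))
      rw [e1, orderOf_one] at hj
      omega
    interval_cases h : Nat.card sixAct.ker
    · rw [pow_one] at hp; rw [hp, one_pow]
    · omega
    · exact hp
  have hu6 : (u ^ 3) * (u ^ 3) = 1 := by
    rw [← (Commute.refl u).mul_pow]
    exact congrArg Subtype.val h3
  have hact : sixAct (u ^ 3) = Equiv.swap a b := by
    rw [map_pow, hu, pow_succ, pow_two, Equiv.swap_mul_self, one_mul]
  set t := ((u ^ 3 : CS) : M24).1 with ht
  have hts : t * t = 1 := congrArg (fun x : CS => (x : M24).1) hu6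
  have hta : ∀ p : six, t p = (Equiv.swap a b p : GolayPt) := fun p => by rw [← hact]; rfl
  have htne : t ≠ 1 := fun h => hab (Subtype.ext (by
    have := hta a
    rwa [h, Equiv.swap_apply_left] at this))
  have ho : orderOf t = 2 := orderOf_eq_prime (by rw [pow_two, hts]) htne
  obtain ⟨c, hca, hcb⟩ : ∃ c : six, c ≠ a ∧ c ≠ b := by
    have h : (({a, b} : Finset six)ᶜ).Nonempty := by
      rw [← Finset.card_pos, Finset.card_compl, Fintype.card_coe, card_six, Finset.card_pair hab]
      norm_num
    obtain ⟨c, hc⟩ := h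
    simp only [Finset.mem_compl, Finset.mem_insert, Finset.mem_singleton, not_or] at hc
    exact ⟨c, hc⟩
  have hfo := fixedPts_octad (u ^ 3 : CS).1.2 ho (p := (c : GolayPt)) (by
    rw [← ht, hta, Equiv.swap_apply_of_ne_of_ne hca hcb])
  refine (octad_not_six hfo).2 ?_ ?_
  · ext q
    rw [← Finset.inv_smul_mem_iff, mem_fixedPts, mem_fixedPts, Equiv.Perm.smul_def,
      Equiv.Perm.coe_inv, ← ht]
    have hc := CS.comm (u ^ 3) (sigM.1.symm q)
    rw [← ht, Equiv.apply_symm_apply] at hc
    rw [hc]
    exact (Equiv.eq_symm_apply sigM.1).trans Iff.rfl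
  · have e : fixedPts t ∩ six = six \ {(a : GolayPt), (b : GolayPt)} := by
      ext q
      simp only [Finset.mem_inter, mem_fixedPts, Finset.mem_sdiff, Finset.mem_insert, Finset.mem_singleton]
      constructor
      · rintro ⟨h1, h2⟩
        refine ⟨h2, ?_⟩
        rintro (rfl | rfl) <;> rw [hta] at h1
        · rw [Equiv.swap_apply_left] at h1; exact hab (Subtype.ext h1).symm
        · rw [Equiv.swap_apply_right] at h1; exact hab (Subtype.ext h1)
      · rintro ⟨h2, hne⟩
        refine ⟨?_, h2⟩
        have := hta ⟨q, h2⟩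
        rw [Equiv.swap_apply_of_ne_of_ne (fun e => hne (Or.inl (congrArg Subtype.val e)))
          (fun e => hne (Or.inr (congrArg Subtype.val e)))] at this
        exact this
    rw [← ht, e, Finset.card_sdiff_of_subset (by simp [Finset.insert_subset_iff]), card_six,
      Finset.card_pair (fun e => hab (Subtype.ext e))]

theorem card_CS : Nat.card CS ≤ 1080 := by
  classical
  rw [Subgroup.card_eq_card_quotient_mul_card_subgroup sixAct.ker,
    Nat.card_congr (QuotientGroup.quotientKerEquivRange sixAct).toEquiv]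
  have h1 := sixAct.range.card_mul_index
  rw [Nat.card_perm, Nat.card_eq_fintype_card (α := six), Fintype.card_coe, card_six] at h1
  have h2 : 2 ≤ sixAct.range.index := by
    have := Subgroup.index_ne_zero_of_finite (H := sixAct.range)
    have : sixAct.range.index ≠ 1 := fun h => range_ne_top (Subgroup.index_eq_one.1 h)
    omega
  have h720 : Nat.factorial 6 = 720 := rfl
  have h3 : Nat.card sixAct.range ≤ 360 := by
    have := Nat.mul_le_mul_left (Nat.card sixAct.range) h2
    omega
  calc _ ≤ 360 * 3 := Nat.mul_le_mul h3 card_ker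
    _ = 1080 := rfl

end Cfsg.Agent.MonsterFi58
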