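import Cfsg.Agent.MonsterFi58.Short
import Cfsg.Agent.MonsterFi58.Cent
import Cfsg.Agent.Monster39.Stabilizer

/-!
The centralizer in `Co₀` of the element of order three has at most 117573120 elements.
-/

set_option autoImplicit false
set_option maxRecDepth 100000

namespace Cfsg.Agent.MonsterFi58

open Cfsg Cfsg.Agent.Leech
open Cfsg.Agent.Golay (pt idx idx_lt pt_idx idx_pt comb popc maps toSet inCode)
open scoped Pointwise

/-- The centralizer. -/
abbrev C0 : Subgroup Co0 := Subgroup.centralizer ({g0} : Set Co0)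

/-- A fixed point of the permutation. -/
noncomputable def pp : GolayPt := pt 2

theorem fix_pp : sigM.1 pp = pp := by
  rw [pp, tab_sig.apply, idx_pt (by norm_num)]; rfl

theorem fix_frame : IsFix (frame pp) :=
  isFix_of_apply fun p => by
    show (Pi.single pp (8 : ℤ) : GolayPt → ℤ) _ = (Pi.single pp (8 : ℤ) : GolayPt → ℤ) p
    simp only [Pi.single_apply]
    refine if_congr ⟨fun h => ?_, fun h => by rw [h, fix_pp]⟩ rfl rfl
    exact sigM.1.injective (h.trans fix_pp.symm)

theorem sqNorm_frame' : sqNorm (frame pp : GolayPt → ℤ) = 64 :=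
  SporStruct.CoMatrix.sqNorm_frame pp

theorem code_count : ((List.range 4096).filter fun m => maps sigTab (comb m) (comb m)).length ≤ 64 := by
  decide +kernel

/-- The invariant words. -/
abbrev FixWord : Type := {c : Finset GolayPt // c ∈ code ∧ sigM.1 • c = c}

theorem card_fixWord : Nat.card FixWord ≤ 64 := by
  classical
  let T := (((List.range 4096).filter fun m => maps sigTab (comb m) (comb m)).toFinset).image
    fun m => toSet (comb m)
  have hT : T.card ≤ 64 :=
    (Finset.card_image_le.trans (List.toFinset_card_le _)).trans code_count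
  refine le_trans ?_ hT
  rw [← Fintype.card_coe T, ← Nat.card_eq_fintype_card]
  refine Nat.card_le_card_of_injective (fun c => ⟨c.1, ?_⟩) fun a b h => Subtype.ext (congrArg Subtype.val h :)
  obtain ⟨hc, hfix⟩ := c.2
  obtain ⟨n, hn, e⟩ := Golay.mem_supports_iff.1 hc
  rw [Finset.mem_image]
  have hcn : comb (n % 4096) = n := beq_iff_eq.1 hn
  refine ⟨n % 4096, ?_, by rw [hcn, e]⟩
  rw [List.mem_toFinset, List.mem_filter, List.mem_range, hcn]
  refine ⟨Nat.mod_lt _ (by norm_num), ?_⟩
  simp only [maps, List.all_eq_true, List.mem_range, beq_iff_eq]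
  intro i hi
  rw [Bool.eq_iff_iff]
  have hm : sigM.1 (pt i) ∈ sigM.1 • c.1 ↔ pt i ∈ c.1 := by
    rw [← Equiv.Perm.smul_def, Finset.smul_mem_smul_finset_iff]
  rw [hfix, ← e] at hm
  simpa only [Golay.mem_toSet, idx_pt hi, tab_sig i hi] using hm

theorem mono_comm {τ : M24} {c : Finset GolayPt} (hc : c ∈ code) (h : mono τ hc ∈ C0) :
    τ ∈ CS ∧ sigM.1 • c = c := by
  have e := Subgroup.mem_centralizer_singleton_iff.1 h
  have hsc : sigM.1 • c ∈ code := by
    rw [← show sigM.1 • code = code from sigM.2]
    exact Set.smul_mem_smul_set hc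
  rw [show g0 = mono sigM empty_mem_code from rfl,
    Monster39.mono_mul_mono hc empty_mem_code hc (by simp [symmDiff_def]),
    Monster39.mono_mul_mono empty_mem_code hc hsc (by simp [symmDiff_def])] at e
  obtain ⟨e1, e2⟩ := mono_injective e
  exact ⟨Subgroup.mem_centralizer_singleton_iff.2 e1, e2.symm⟩

theorem mono_congr {σ τ : M24} {c d : Finset GolayPt} {hc : c ∈ code} {hd : d ∈ code} (h1 : σ = τ)
    (h2 : c = d) : mono σ hc = mono τ hd := by
  subst h1 h2; rfl

/-- The monomial elements of the centralizer. -/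
abbrev MonoPart : Type := {g : C0 // ∀ v : leechLattice, (v : GolayPt → ℤ) ∈ stdCross →
    (((g : Co0) • v : leechLattice) : GolayPt → ℤ) ∈ stdCross}

theorem card_monoPart : Nat.card MonoPart ≤ 1080 * 64 := by
  classical
  refine le_trans (Nat.card_le_card_of_injective (β := CS × FixWord) (fun g => ?_) ?_) ?_
  · have h := exists_eq_mono g.2
    exact (⟨h.choose, (mono_comm h.choose_spec.choose_spec.choose
        (by rw [← h.choose_spec.choose_spec.choose_spec]; exact g.1.2)).1⟩,
      ⟨h.choose_spec.choose, h.choose_spec.choose_spec.choose,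
        (mono_comm h.choose_spec.choose_spec.choose
        (by rw [← h.choose_spec.choose_spec.choose_spec]; exact g.1.2)).2⟩)
  · intro g k e
    simp only [Prod.mk.injEq, Subtype.mk.injEq] at e
    refine Subtype.ext (Subtype.ext ?_)
    rw [(exists_eq_mono g.2).choose_spec.choose_spec.choose_spec,
      (exists_eq_mono k.2).choose_spec.choose_spec.choose_spec]
    exact mono_congr e.1 e.2
  · rw [Nat.card_prod]
    exact Nat.mul_le_mul card_CS card_fixWord

theorem mem_monoPart {g : Co0}
    (h : Cong ((g • frame pp : leechLattice) : GolayPt → ℤ) (frame pp : GolayPt → ℤ))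
    (v : leechLattice) (hv : (v : GolayPt → ℤ) ∈ stdCross) :
    ((g • v : leechLattice) : GolayPt → ℤ) ∈ stdCross := by
  rw [← stdCross_eq_class] at hv ⊢
  obtain ⟨-, hn, hc⟩ := hv
  refine ⟨SetLike.coe_mem _, (sqNorm_smul g v).trans hn, ?_⟩
  have h0 := Monster39.cong_frame pp
  exact (h0.trans h.symm).trans (cong_smul g (h0.symm.trans hc))

theorem card_C0_le : Nat.card C0 ≤ 117573120 := by
  classical
  have : Finite Co0 := Monster39.finiteCo0
  let S : Finset (Fin 12 → Bool) := smallXᶜ
  have hS : S.card = 1701 := by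
    rw [Finset.card_compl, card_smallX]
    simp
  let a : C0 → S := fun g => ⟨cls12 ((g : Co0) • frame pp), Finset.mem_compl.2
    (code_notMem (fix_frame.smul g.2) ((sqNorm_smul _ _).trans sqNorm_frame'))⟩
  have hrep : ∀ g : C0, ∃ k : C0, a k = a g := fun g => ⟨g, rfl⟩
  choose! r hr using fun x : S => fun (h : ∃ k, a k = x) => h
  have hmem : ∀ g : C0, ∀ v : leechLattice, (v : GolayPt → ℤ) ∈ stdCross →
      (((((r (a g))⁻¹ * g : C0)) : Co0) • v : leechLattice) ∈ {u : leechLattice | (u : GolayPt → ℤ) ∈ stdCross} := by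
    intro g v hv
    refine mem_monoPart ?_ v hv
    have e : cls12 ((r (a g) : Co0) • frame pp) = cls12 ((g : Co0) • frame pp) :=
      congrArg Subtype.val (hr (a g) (hrep g))
    have hc := (cls_eq_iff (fix_frame.smul (r (a g)).2) (fix_frame.smul g.2)).1 e
    have := cong_smul ((r (a g) : Co0)⁻¹) hc.symm
    rwa [inv_smul_smul, ← mul_smul] at this
  calc Nat.card C0 ≤ Nat.card (S × MonoPart) :=
        Nat.card_le_card_of_injective (fun g => (a g, ⟨(r (a g))⁻¹ * g, hmem g⟩)) fun g k e => by
          simp only [Prod.mk.injEq, Subtype.mk.injEq] at e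
          obtain ⟨e1, e2⟩ := e
          rw [e1] at e2
          exact mul_left_cancel e2
    _ ≤ 1701 * (1080 * 64) := by
        rw [Nat.card_prod, Nat.card_eq_fintype_card (α := S), Fintype.card_coe, hS]
        exact Nat.mul_le_mul_left _ card_monoPart
    _ = 117573120 := rfl

end Cfsg.Agent.MonsterFi58
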