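import Cfsg.Agent.MonsterFi58.Data
import Cfsg.Agent.LeechUnitary.Sound
import Cfsg.Prelude.Def_MonsterType

/-!
An element of order three of `Co₀` fixing six points, and the lattice of its fixed vectors.
-/

set_option autoImplicit false
set_option maxRecDepth 100000

namespace Cfsg.Agent.MonsterFi58

open Cfsg Cfsg.Agent.Leech Cfsg.Agent.LeechUnitary
open Cfsg.Agent.SporStruct CoMatrix
open Cfsg.Agent.Golay (pt idx idx_lt pt_idx idx_pt Tab comp idTab isPermTab checkAut permOf tab_permOf)

theorem sig_ok : isPermTab sigTab = true ∧ checkAut sigTab = true ∧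
    comp sigTab (comp sigTab sigTab) = idTab := by decide +kernel

/-- The permutation. -/
noncomputable def sigM : M24 := ⟨permOf sigTab sig_ok.1, (tab_permOf sig_ok.1).mem_M24 sig_ok.2.1⟩

theorem tab_sig : Tab sigM.1 sigTab := tab_permOf sig_ok.1

theorem sigM_cube : sigM * (sigM * sigM) = 1 := by
  refine Subtype.ext (Equiv.ext fun p => ?_)
  have h := (tab_sig.mul (tab_sig.mul tab_sig)).apply p
  rw [sig_ok.2.2, idTab] at h
  simp only [List.getD_eq_getElem?_getD, List.getElem?_range (idx_lt p), Option.getD_some, pt_idx] at h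
  simpa using h

/-- The element of order three. -/
noncomputable def g0 : Co0 := Leech.permHom sigM

theorem g0_cube : g0 * (g0 * g0) = 1 := by rw [g0, ← map_mul, ← map_mul, sigM_cube, map_one]

/-- The vectors fixed by the element. -/
def IsFix (v : leechLattice) : Prop := g0 • v = v

theorem IsFix.apply {v : leechLattice} (h : IsFix v) (p : GolayPt) :
    (v : GolayPt → ℤ) (sigM.1 p) = (v : GolayPt → ℤ) p := by
  have e := congrArg (fun u : leechLattice => (u : GolayPt → ℤ) (sigM.1 p)) h
  simp only [g0, coe_permHom_smul, Equiv.symm_apply_apply] at e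
  exact e.symm

theorem isFix_of_apply {v : leechLattice}
    (h : ∀ p, (v : GolayPt → ℤ) (sigM.1 p) = (v : GolayPt → ℤ) p) : IsFix v := by
  refine Subtype.ext (funext fun p => ?_)
  rw [g0, coe_permHom_smul]
  simpa using (h (sigM.1.symm p)).symm

theorem IsFix.smul {v : leechLattice} (h : IsFix v) {g : Co0}
    (hg : g ∈ Subgroup.centralizer ({g0} : Set Co0)) : IsFix (g • v) := by
  rw [IsFix, smul_smul, ← Subgroup.mem_centralizer_singleton_iff.1 hg, mul_smul, h]

theorem rows_ok :
    ((basT ++ dualT ++ frmT).all fun r => inLB r && decide (r.length = 24)) = true ∧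
    basT.length = 12 ∧ dualT.length = 12 ∧ frmT.length = 6 ∧
    ((basT ++ frmT).all fun r => (List.range 24).all fun i =>
      decide (r.getD (sigTab.getD i 0) 0 = r.getD i 0)) = true := by decide +kernel

/-- The basis vector with the given number. -/
noncomputable def bv (i : Fin 12) : leechLattice := lat (basT.getD i [])

/-- The dual vector with the given number. -/
noncomputable def wv (i : Fin 12) : leechLattice := lat (dualT.getD i [])

/-- The vector of the orthogonal six with the given number. -/
noncomputable def fv (i : Fin 6) : leechLattice := lat (frmT.getD i [])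

theorem getD_mem {T : List (List ℤ)} {i : ℕ} (h : i < T.length) : T.getD i [] ∈ T := by
  rw [List.getD_eq_getElem _ _ h]; exact List.getElem_mem h

theorem row_spec {r : List ℤ} (h : r ∈ basT ++ dualT ++ frmT) :
    ((lat r : leechLattice) : GolayPt → ℤ) = vecP r ∧
      vecL ((lat r : leechLattice) : GolayPt → ℤ) = r := by
  have h' := List.all_eq_true.1 rows_ok.1 r h
  simp only [Bool.and_eq_true, decide_eq_true_eq] at h'
  exact ⟨coe_lat h'.2 h'.1, vecL_lat h'.2 h'.1⟩

theorem bas_mem (i : Fin 12) : basT.getD i [] ∈ basT := getD_mem (by rw [rows_ok.2.1]; exact i.2)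
theorem dual_mem (i : Fin 12) : dualT.getD i [] ∈ dualT := getD_mem (by rw [rows_ok.2.2.1]; exact i.2)
theorem frm_mem (i : Fin 6) : frmT.getD i [] ∈ frmT := getD_mem (by rw [rows_ok.2.2.2.1]; exact i.2)

theorem coe_bv (i : Fin 12) : ((bv i : leechLattice) : GolayPt → ℤ) = vecP (basT.getD i []) :=
  (row_spec (List.mem_append_left _ (List.mem_append_left _ (bas_mem i)))).1

theorem coe_wv (i : Fin 12) : ((wv i : leechLattice) : GolayPt → ℤ) = vecP (dualT.getD i []) :=
  (row_spec (List.mem_append_left _ (List.mem_append_right _ (dual_mem i)))).1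

theorem vecL_fv (i : Fin 6) : vecL ((fv i : leechLattice) : GolayPt → ℤ) = frmT.getD i [] :=
  (row_spec (List.mem_append_right _ (frm_mem i))).2

theorem vecL_bv (i : Fin 12) : vecL ((bv i : leechLattice) : GolayPt → ℤ) = basT.getD i [] :=
  (row_spec (List.mem_append_left _ (List.mem_append_left _ (bas_mem i)))).2

theorem fix_row {r : List ℤ} (h : r ∈ basT ++ frmT) : IsFix (lat r) := by
  have hm : r ∈ basT ++ dualT ++ frmT := by
    rcases List.mem_append.1 h with h | h
    · exact List.mem_append_left _ (List.mem_append_left _ h)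
    · exact List.mem_append_right _ h
  refine isFix_of_apply fun p => ?_
  have h' := List.all_eq_true.1 (List.all_eq_true.1 rows_ok.2.2.2.2 r h) (idx p)
    (List.mem_range.2 (idx_lt p))
  rw [(row_spec hm).1, tab_sig.apply]
  simp only [vecP, idx_pt (tab_sig.lt (idx_lt p))]
  simpa using h'

theorem fix_bv (i : Fin 12) : IsFix (bv i) := fix_row (List.mem_append_left _ (bas_mem i))
theorem fix_fv (i : Fin 6) : IsFix (fv i) := fix_row (List.mem_append_right _ (frm_mem i))

/-- The coefficient of a fixed vector at a basis vector. -/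
noncomputable def cf (i : Fin 12) (v : leechLattice) : ℤ :=
  dotInt (v : GolayPt → ℤ) (wv i : GolayPt → ℤ) / 8

theorem cf_eq (i : Fin 12) (v : leechLattice) :
    8 * cf i v = dotInt (v : GolayPt → ℤ) (wv i : GolayPt → ℤ) :=
  Int.mul_ediv_cancel' (eight_dvd_dotInt v.2 (wv i).2)

/-- The coefficient as a homomorphism. -/
noncomputable def cfHom (i : Fin 12) : leechLattice →+ ℤ :=
  AddMonoidHom.mk' (cf i) fun v w => by
    have h1 := cf_eq i v
    have h2 := cf_eq i w
    have h3 := cf_eq i (v + w)
    rw [AddSubgroup.coe_add, Cfsg.dotInt_add_left] at h3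
    omega

/-- Sum over an orbit of the products of dual and basis entries. -/
def orbProd (p q : ℕ) : ℤ :=
  ((List.range 12).map fun i => (dualT.getD i []).getD q 0 * (basT.getD i []).getD p 0).sum

/-- One for equal numbers. -/
def dl (a b : ℕ) : ℤ := if a = b then 1 else 0

theorem expand_check : ((List.range 24).all fun p => (List.range 24).all fun q =>
    decide (orbProd p q + orbProd p (sigTab.getD q 0) + orbProd p (sigTab.getD (sigTab.getD q 0) 0) =
      8 * (dl q p + dl (sigTab.getD q 0) p + dl (sigTab.getD (sigTab.getD q 0) 0) p))) = true := by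
  decide +kernel

theorem dual_check : ((List.range 12).all fun i => (List.range 12).all fun j =>
    dotL (basT.getD i []) (dualT.getD j []) == 8 * dl i j) = true := by decide +kernel

theorem cf_bv (i j : Fin 12) : cf j (bv i) = if i = j then 1 else 0 := by
  have h := List.all_eq_true.1 (List.all_eq_true.1 dual_check i (List.mem_range.2 i.2)) j
    (List.mem_range.2 j.2)
  rw [beq_iff_eq] at h
  have e : dotInt (bv i : GolayPt → ℤ) (wv j : GolayPt → ℤ) = 8 * dl i j := by
    rw [Cert.dotInt_vecL, vecL_bv, coe_wv, vecL_vecP, h]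
    have h' := List.all_eq_true.1 rows_ok.1 _ (List.mem_append_left _ (List.mem_append_right _ (dual_mem j)))
    simp only [Bool.and_eq_true, decide_eq_true_eq] at h'
    exact h'.2
  rw [cf, e, Int.mul_ediv_cancel_left _ (by norm_num), dl]
  simp only [Fin.val_inj]

/-- The combination of the basis. -/
noncomputable def comb12 (n : Fin 12 → ℤ) : leechLattice := ∑ i, n i • bv i

theorem cf_comb (n : Fin 12 → ℤ) (j : Fin 12) : cf j (comb12 n) = n j := by
  show cfHom j (comb12 n) = _
  simp only [comb12, map_sum, map_zsmul]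
  show ∑ i, n i • cf j (bv i) = _
  simp [cf_bv]

theorem fix_comb (n : Fin 12 → ℤ) : IsFix (comb12 n) :=
  isFix_of_apply fun p => by
    simp only [comb12, AddSubgroup.val_finsetSum, Finset.sum_apply, AddSubgroup.coe_zsmul,
      Pi.smul_apply]
    exact Finset.sum_congr rfl fun i _ => by rw [(fix_bv i).apply p]

theorem expand {v : leechLattice} (h : IsFix v) : v = comb12 fun i => cf i v := by
  refine Subtype.ext (funext fun p => ?_)
  let M : GolayPt → ℤ := fun q => orbProd (idx p) (idx q)
  have hR : (8 : ℤ) * ((comb12 fun i => cf i v : leechLattice) : GolayPt → ℤ) p =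
      ∑ q, (v : GolayPt → ℤ) q * M q := by
    simp only [comb12, AddSubgroup.val_finsetSum, Finset.sum_apply, AddSubgroup.coe_zsmul,
      Pi.smul_apply, smul_eq_mul, Finset.mul_sum, ← mul_assoc, cf_eq, dotInt_sum, Finset.sum_mul]
    rw [Finset.sum_comm]
    refine Finset.sum_congr rfl fun q _ => ?_
    simp only [M, orbProd, mul_assoc, ← Finset.mul_sum]
    congr 1
    rw [show ((List.range 12).map fun i => (dualT.getD i []).getD (idx q) 0 *
        (basT.getD i []).getD (idx p) 0).sum =
      ∑ i ∈ Finset.range 12, (dualT.getD i []).getD (idx q) 0 * (basT.getD i []).getD (idx p) 0 from rfl,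
      ← Fin.sum_univ_eq_sum_range]
    exact Finset.sum_congr rfl fun i _ => by rw [coe_wv, coe_bv]; rfl
  set s : Equiv.Perm GolayPt := sigM.1
  have e1 : ∑ q, (v : GolayPt → ℤ) q * M (s q) = ∑ q, (v : GolayPt → ℤ) q * M q := by
    rw [← Equiv.sum_comp s (fun q => (v : GolayPt → ℤ) q * M q)]
    exact Finset.sum_congr rfl fun q _ => by rw [h.apply]
  have e2 : ∑ q, (v : GolayPt → ℤ) q * M (s (s q)) = ∑ q, (v : GolayPt → ℤ) q * M q := by
    rw [← e1, ← Equiv.sum_comp s (fun q => (v : GolayPt → ℤ) q * M (s q))]
    exact Finset.sum_congr rfl fun q _ => by rw [h.apply]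
  have hM : ∀ q, M q + M (s q) + M (s (s q)) = 8 * ((if q = p then 1 else 0) +
      (if s q = p then 1 else 0) + (if s (s q) = p then 1 else 0)) := by
    intro q
    have hc := List.all_eq_true.1 (List.all_eq_true.1 expand_check (idx p)
      (List.mem_range.2 (idx_lt p))) (idx q) (List.mem_range.2 (idx_lt q))
    have i1 : idx (s q) = sigTab.getD (idx q) 0 := by
      rw [← tab_sig _ (idx_lt q), pt_idx]
    have i2 : idx (s (s q)) = sigTab.getD (sigTab.getD (idx q) 0) 0 := by
      rw [← i1, ← tab_sig _ (idx_lt (s q)), pt_idx]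
    rw [decide_eq_true_eq, ← i2, ← i1] at hc
    simp only [dl, Golay.idx_injective.eq_iff] at hc
    exact hc
  have hsum : ∑ q, (v : GolayPt → ℤ) q * (M q + M (s q) + M (s (s q))) =
      8 * (3 * (v : GolayPt → ℤ) p) := by
    simp only [hM, mul_add, ← mul_assoc, Finset.sum_add_distrib, mul_ite, mul_one, mul_zero]
    have a1 : ∑ q, (if s q = p then (v : GolayPt → ℤ) q * 8 else 0) = (v : GolayPt → ℤ) p * 8 := by
      rw [Finset.sum_eq_single (s.symm p) (fun q _ hq => if_neg fun e => hq (by rw [← e]; simp))
        (by simp), if_pos (Equiv.apply_symm_apply _ _), ← h.apply (s.symm p)]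
      simp [s]
    have a2 : ∑ q, (if s (s q) = p then (v : GolayPt → ℤ) q * 8 else 0) = (v : GolayPt → ℤ) p * 8 := by
      rw [Finset.sum_eq_single (s.symm (s.symm p))
        (fun q _ hq => if_neg fun e => hq (by rw [← e]; simp)) (by simp),
        if_pos (by simp), ← h.apply (s.symm (s.symm p))]
      have := h.apply (s.symm p)
      simp only [s, Equiv.apply_symm_apply] at this ⊢
      rw [← this]
    simp only [Finset.sum_ite_eq', Finset.mem_univ, if_true, a1, a2]
    ring
  simp only [mul_add, Finset.sum_add_distrib, e1, e2, ← hR] at hsum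
  omega

theorem eq_of_cf {u v : leechLattice} (hu : IsFix u) (hv : IsFix v) (h : ∀ i, cf i u = cf i v) :
    u = v := by rw [expand hu, expand hv]; simp only [h]

theorem cong_iff {u v : leechLattice} (hu : IsFix u) (hv : IsFix v) :
    Cong (u : GolayPt → ℤ) (v : GolayPt → ℤ) ↔ ∀ i, cf i u % 2 = cf i v % 2 := by
  constructor
  · rintro ⟨z, hz, e⟩ i
    have e' : u - v = ⟨z, hz⟩ + ⟨z, hz⟩ := Subtype.ext (by
      rw [AddSubgroup.coe_sub, e, AddSubgroup.coe_add, two_nsmul])
    have := congrArg (cfHom i) e'
    rw [map_sub, map_add] at this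
    change cf i u - cf i v = cf i _ + cf i _ at this
    omega
  · intro h
    refine ⟨comb12 fun i => (cf i u - cf i v) / 2, SetLike.coe_mem _, ?_⟩
    have e : u - v = comb12 (fun i => (cf i u - cf i v) / 2) + comb12 (fun i => (cf i u - cf i v) / 2) := by
      conv_lhs => rw [expand hu, expand hv]
      simp only [comb12, ← Finset.sum_sub_distrib, ← Finset.sum_add_distrib, ← sub_smul, ← add_smul]
      exact Finset.sum_congr rfl fun i _ => by congr 1; have := h i; omega
    have := congrArg (fun x : leechLattice => (x : GolayPt → ℤ)) e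
    simp only [AddSubgroup.coe_sub, AddSubgroup.coe_add] at this
    rw [this, two_nsmul]

/-- The representative of a fixed class. -/
noncomputable def repV (x : Fin 12 → Bool) : leechLattice :=
  comb12 fun i => if x i then 1 else 0

/-- The fixed class of a fixed vector. -/
noncomputable def cls12 (v : leechLattice) : Fin 12 → Bool := fun i => decide (cf i v % 2 = 1)

theorem cls_repV (x : Fin 12 → Bool) : cls12 (repV x) = x := by
  funext i; simp only [cls12, repV, cf_comb]; cases x i <;> simp

theorem cls_eq_iff {u v : leechLattice} (hu : IsFix u) (hv : IsFix v) :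
    cls12 u = cls12 v ↔ Cong (u : GolayPt → ℤ) (v : GolayPt → ℤ) := by
  rw [cong_iff hu hv, funext_iff]
  refine forall_congr' fun i => ?_
  simp only [cls12, decide_eq_decide]
  omega

theorem repV_inj {x y : Fin 12 → Bool}
    (h : Cong (repV x : GolayPt → ℤ) (repV y : GolayPt → ℤ)) : x = y := by
  rw [← cls_repV x, ← cls_repV y]
  exact (cls_eq_iff (fix_comb _) (fix_comb _)).2 h

/-- Every class mod 2 fixed by the element has a fixed member. -/
theorem exists_repV {v : leechLattice}
    (h : Cong ((g0 • v : leechLattice) : GolayPt → ℤ) (v : GolayPt → ℤ)) :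
    ∃ x, Cong (v : GolayPt → ℤ) (repV x : GolayPt → ℤ) := by
  let u : leechLattice := v + g0 • v + g0 • g0 • v
  have hu : IsFix u := by
    show g0 • u = u
    simp only [u, smul_add', smul_smul, g0_cube, one_smul]
    abel
  have hc : Cong (v : GolayPt → ℤ) (u : GolayPt → ℤ) := by
    obtain ⟨a, ha, ea⟩ := h
    obtain ⟨b, hb, eb⟩ := cong_smul g0 ⟨a, ha, ea⟩
    refine ⟨-(b + ((g0 • v : leechLattice) : GolayPt → ℤ)), neg_mem (add_mem hb (SetLike.coe_mem _)), ?_⟩
    funext p
    have := congrFun eb p
    simp only [u, AddSubgroup.coe_add, Pi.sub_apply, Pi.add_apply, Pi.smul_apply, Pi.neg_apply,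
      nsmul_eq_mul, Nat.cast_ofNat] at this ⊢
    omega
  exact ⟨cls12 u, hc.trans ((cls_eq_iff hu (fix_comb _)).1 (cls_repV _).symm)⟩

end Cfsg.Agent.MonsterFi58
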