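import Cfsg.Agent.MonsterCent3.Locate
import Cfsg.Agent.MonsterFi58.Fix
import Cfsg.Agent.Sporadic96.M24.Three

/-!
A central subgroup of order three of a Sylow 3-subgroup of the joint centralizer of `z` and a conjugate
`s` in `Q`: its place in the Conway group, and an element of its centralizer moving `z`.
-/
set_option autoImplicit false
set_option linter.style.haveILetI false
set_option linter.unusedSectionVars false
set_option maxRecDepth 100000

namespace Cfsg.Agent.MonsterFi58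

open Cfsg Cfsg.Agent.Monster39
open Cfsg.Agent.Sporadic96 (syl3 syl3Tabs card_syl3 three_facts)
open Cfsg.Agent.Golay (pt idx idx_lt pt_idx idx_pt Tab comp idTab)
open scoped Pointwise

theorem syl_check :
    syl3Tabs.contains sigTab = true ∧
    (syl3Tabs.all fun l => !(syl3Tabs.all fun m => comp l m == comp m l) ||
      [idTab, sigTab, comp sigTab sigTab].contains l) = true ∧
    (syl3Tabs.all fun l => l.length == 24) = true := by
  decide +kernel

theorem eq_of_tab {g h : M24} {l : List ℕ} (hg : Tab g.1 l) (hh : Tab h.1 l) : g = h :=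
  Subtype.ext (Equiv.ext fun p => by rw [hg.apply, hh.apply])

theorem tab_getD_ext {g : Equiv.Perm GolayPt} {l m : List ℕ} (hl : l.length = 24) (hm : m.length = 24)
    (hg : Tab g l) (hg' : Tab g m) : l = m := by
  refine List.ext_getElem (hl.trans hm.symm) fun i h1 h2 => ?_
  have a := hg i (hl ▸ h1)
  have b := hg' i (hl ▸ h1)
  rw [List.getD_eq_getElem _ _ h1] at a
  rw [List.getD_eq_getElem _ _ h2] at b
  exact a.symm.trans b

theorem sig_mem_syl3 : sigM ∈ syl3 := ⟨sigTab, List.contains_iff_mem.1 syl_check.1, tab_sig⟩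

theorem orderOf_sigM : orderOf sigM = 3 := by
  haveI : Fact (Nat.Prime 3) := ⟨Nat.prime_three⟩
  refine orderOf_eq_prime (by rw [pow_succ, pow_two, mul_assoc]; exact sigM_cube) fun h => ?_
  have e := congrArg (fun g : M24 => idx (g.1 (pt 0))) h
  simp only [tab_sig 0 (by norm_num), OneMemClass.coe_one, Equiv.Perm.one_apply, idx_pt (show 0 < 24 by norm_num)] at e
  revert e; decide +kernel

theorem card_syl3_eq : Nat.card syl3 = 27 := by
  refine le_antisymm ?_ card_syl3
  obtain ⟨-, -, -, hnd, hlen, -, -⟩ := three_facts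
  calc Nat.card syl3 ≤ Nat.card {l // l ∈ syl3Tabs.toFinset} :=
        Nat.card_le_card_of_injective (fun g => ⟨g.2.choose, List.mem_toFinset.2 g.2.choose_spec.1⟩)
          fun g h e => by
            have e' : g.2.choose = h.2.choose := congrArg Subtype.val e
            exact Subtype.ext (eq_of_tab g.2.choose_spec.2 (e' ▸ h.2.choose_spec.2))
    _ = 27 := by rw [Nat.card_eq_fintype_card, Fintype.card_coe, List.toFinset_card_of_nodup hnd, hlen]

theorem central_syl3 {x : M24} (hx : x ∈ syl3) (hc : ∀ y ∈ syl3, x * y = y * x) :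
    x = 1 ∨ x = sigM ∨ x = sigM * sigM := by
  obtain ⟨l, hl, tl⟩ := hx
  have hlen : ∀ a ∈ syl3Tabs, a.length = 24 := fun a ha => by
    have := List.all_eq_true.1 syl_check.2.2 a ha
    simpa using this
  have hcomp : ∀ a b : List ℕ, (comp a b).length = 24 := fun a b => by simp [comp]
  have hall : (syl3Tabs.all fun m => comp l m == comp m l) = true := by
    rw [List.all_eq_true]
    intro m hm
    obtain ⟨hall, -, -, -, -, -, -⟩ := three_facts
    simp only [List.all_eq_true, Bool.and_eq_true] at hall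
    have hp := (hall m hm).1.1
    let y : M24 := ⟨_, (Golay.tab_permOf hp.1).mem_M24 hp.2⟩
    have e := hc y ⟨m, hm, Golay.tab_permOf hp.1⟩
    have t1 := tl.mul (Golay.tab_permOf hp.1)
    have t2 := (Golay.tab_permOf hp.1).mul tl
    have e' : x.1 * y.1 = y.1 * x.1 := congrArg Subtype.val e
    rw [e'] at t1
    exact beq_iff_eq.2 (tab_getD_ext (hcomp _ _) (hcomp _ _) t1 t2)
  have h := List.all_eq_true.1 syl_check.2.1 l hl
  rw [hall, Bool.not_true, Bool.false_or, List.contains_iff_mem] at h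
  simp only [List.mem_cons, List.not_mem_nil, or_false] at h
  rcases h with rfl | rfl | rfl
  · exact Or.inl (eq_of_tab tl Golay.tab_one)
  · exact Or.inr (Or.inl (eq_of_tab tl tab_sig))
  · exact Or.inr (Or.inr (eq_of_tab tl (tab_sig.mul tab_sig)))

variable {G : Type*} [Group G] [Finite G] {z : G}
  {Q : Subgroup (Subgroup.centralizer ({z} : Set G))} [Q.Normal]
  {e : (Subgroup.centralizer ({z} : Set G)) ⧸ Q ≃* Spor.Co1}
  {ψ : leechLattice → Q ⧸ Subgroup.center Q}

variable (M : Setting z Q e ψ)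
include M

/-- An element permuting `z`, `s`, `z s` in a cycle. -/
theorem exists_cycle {s : Q} (hs : Cls ψ 64 s) :
    ∃ a : G, a * z * a⁻¹ = ((s : Subgroup.centralizer ({z} : Set G)) : G) ∧
      a * ((s : Subgroup.centralizer ({z} : Set G)) : G) * a⁻¹ =
        z * ((s : Subgroup.centralizer ({z} : Set G)) : G) := by
  obtain ⟨hsconj, hsne⟩ := (M.isConj_iff_cls s).2 hs
  obtain ⟨g₀, hg₀⟩ := isConj_iff.1 hsconj
  have hne : s ≠ M.zQ := (M.ne_zQ_iff s).2 hsne
  obtain ⟨y, hy, hyc⟩ := M.exists_back (x := s) hg₀ hne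
  have hy64 : Cls ψ 64 y := by
    refine (M.isConj_iff_cls y).1 ⟨isConj_iff.2 ⟨g₀⁻¹, by rw [hy, inv_inv]⟩, ?_⟩
    intro h
    exact hyc (M.mem_center_iff.2 (Or.inr (Subtype.ext (Subtype.ext h))))
  obtain ⟨h, hh⟩ := M.transitive (by norm_num) hs hy64
  obtain ⟨q, hq⟩ := M.exists_flip (M.not_mem_center (by norm_num) (by norm_num) hs)
  set S : G := ((s : Subgroup.centralizer ({z} : Set G)) : G) with hSdef
  set g1 := g₀ * (h : G) with hg1
  have hhz : (h : G) * z * (h : G)⁻¹ = z := by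
    rw [Subgroup.mem_centralizer_singleton_iff.1 h.2, mul_inv_cancel_right]
  have hhs : (h : G) * S * (h : G)⁻¹ = g₀⁻¹ * z * g₀ :=
    (congrArg (fun u : Q => ((u : Subgroup.centralizer ({z} : Set G)) : G)) hh).trans hy
  have h1z : g1 * z * g1⁻¹ = S := by
    rw [hg1, show g₀ * (h : G) * z * (g₀ * h)⁻¹ = g₀ * ((h : G) * z * (h : G)⁻¹) * g₀⁻¹ by group, hhz, hg₀]
  have h1s : g1 * S * g1⁻¹ = z := by
    rw [hg1, show g₀ * (h : G) * S * (g₀ * h)⁻¹ = g₀ * ((h : G) * S * (h : G)⁻¹) * g₀⁻¹ by group, hhs]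
    group
  set u : G := ((q : Subgroup.centralizer ({z} : Set G)) : G) with hudef
  have huz : u * z * u⁻¹ = z := by
    rw [Subgroup.mem_centralizer_singleton_iff.1 (q : Subgroup.centralizer ({z} : Set G)).2, mul_inv_cancel_right]
  have hus : u * S * u⁻¹ = S * z := congrArg (fun v : Q => ((v : Subgroup.centralizer ({z} : Set G)) : G)) hq
  have hxz : u * g1 * z * (u * g1)⁻¹ = S * z := by
    rw [show u * g1 * z * (u * g1)⁻¹ = u * (g1 * z * g1⁻¹) * u⁻¹ by group, h1z, hus]
  have hxs : u * g1 * S * (u * g1)⁻¹ = z := by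
    rw [show u * g1 * S * (u * g1)⁻¹ = u * (g1 * S * g1⁻¹) * u⁻¹ by group, h1s, huz]
  have haz : (u * g1)⁻¹ * z * (u * g1)⁻¹⁻¹ = S := by
    calc (u * g1)⁻¹ * z * (u * g1)⁻¹⁻¹ = (u * g1)⁻¹ * (u * g1 * S * (u * g1)⁻¹) * (u * g1)⁻¹⁻¹ := by rw [hxs]
      _ = S := by group
  refine ⟨(u * g1)⁻¹, haz, ?_⟩
  have h2 : (u * g1)⁻¹ * (S * z) * (u * g1) = z := by
    calc _ = (u * g1)⁻¹ * (u * g1 * z * (u * g1)⁻¹) * (u * g1) := by rw [hxz]
      _ = z := by group
  have hzz := M.zz_eq
  rw [inv_inv] at haz ⊢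
  calc (u * g1)⁻¹ * S * (u * g1) = (u * g1)⁻¹ * (S * z * z) * (u * g1) := by rw [mul_assoc S, hzz, mul_one]
    _ = (u * g1)⁻¹ * (S * z) * (u * g1) * ((u * g1)⁻¹ * z * (u * g1)) := by group
    _ = z * S := by rw [h2, haz]

/-- The place of a 3-central subgroup of order three, and an element of its centralizer moving `z`. -/
theorem locate3 {s : Q} (hs : Cls ψ 64 s) {Y : Subgroup G}
    (hY : Y ≤ Subgroup.centralizer ({z, ((s : Subgroup.centralizer ({z} : Set G)) : G)} : Set G))
    (hY3 : Nat.card Y = 3)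
    (hc : ∃ P : Sylow 3 ↥(Subgroup.centralizer ({z, ((s : Subgroup.centralizer ({z} : Set G)) : G)} : Set G)),
      Y.subgroupOf (Subgroup.centralizer ({z, ((s : Subgroup.centralizer ({z} : Set G)) : G)} : Set G)) ≤
        (Subgroup.center ↥(P : Subgroup ↥(Subgroup.centralizer ({z, ((s : Subgroup.centralizer ({z} : Set G)) : G)} : Set G)))).map
          (P : Subgroup ↥(Subgroup.centralizer ({z, ((s : Subgroup.centralizer ({z} : Set G)) : G)} : Set G))).subtype) :
    (∃ (b : Subgroup.centralizer ({z} : Set G)) (a : Co0), orderOf b = 3 ∧ Y = Subgroup.zpowers (b : G) ∧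
      proj e b = QuotientGroup.mk (a * g0 * a⁻¹)) ∧
    ∃ g ∈ Subgroup.centralizer (Y : Set G), ∃ s' : Q, s' ≠ M.zQ ∧
      g * z * g⁻¹ = ((s' : Subgroup.centralizer ({z} : Set G)) : G) := by
  classical
  haveI := finiteCo1
  haveI : Fact (Nat.Prime 3) := ⟨Nat.prime_three⟩
  set W : G := ((s : Subgroup.centralizer ({z} : Set G)) : G) with hW
  set LL := Subgroup.centralizer ({z, W} : Set G) with hLL
  set YL := Y.subgroupOf LL with hYL
  obtain ⟨P, hPY⟩ := hc
  set S := (Subgroup.centralizer ({(s : Subgroup.centralizer ({z} : Set G))} :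
        Set (Subgroup.centralizer ({z} : Set G)))).map (proj e) with hS
  have hLmem : ∀ x : G, x ∈ LL ↔ x * z = z * x ∧ x * W = W * x := fun x => MonsterCent3.mem_pair_iff
  let inc : LL →* Subgroup.centralizer ({z} : Set G) := MonoidHom.mk'
    (fun x => ⟨x, Subgroup.mem_centralizer_singleton_iff.2 ((hLmem _).1 x.2).1⟩) fun _ _ => rfl
  let f : LL →* S := ((proj e).comp inc).codRestrict S fun x =>
    ⟨inc x, Subgroup.mem_centralizer_singleton_iff.2 (Subtype.ext ((hLmem _).1 x.2).2), rfl⟩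
  have hf : Function.Surjective f := by
    rintro ⟨_, c, hc, rfl⟩
    exact ⟨⟨c, (hLmem _).2 ⟨Subgroup.mem_centralizer_singleton_iff.1 c.2,
      congrArg Subtype.val (Subgroup.mem_centralizer_singleton_iff.1 hc)⟩⟩, rfl⟩
  have hcS : Nat.card S = 2 ^ 11 * 244823040 := M.card_stabilizer hs
  have hker : Nat.card f.ker = 2 ^ 24 := by
    have h := Subgroup.card_eq_card_quotient_mul_card_subgroup f.ker
    rw [Nat.card_congr (QuotientGroup.quotientKerEquivOfSurjective f hf).toEquiv, hcS,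
      MonsterCent3.card_centralizer_pair M hs] at h
    omega
  have hinj : ∀ x : LL, x ∈ (P : Subgroup LL) → f x = 1 → x = 1 := by
    intro x hx hx1
    have hdis : Disjoint (P : Subgroup LL) f.ker :=
      IsPGroup.disjoint_of_ne 3 2 (by norm_num) _ _ P.2 (IsPGroup.of_card hker)
    exact (Subgroup.disjoint_def.1 hdis) hx hx1
  obtain ⟨a₀, ha₀⟩ := M.exists_mathieu hs
  let F : M24 →* S := (mathieuHom a₀).codRestrict S fun σ => ha₀ ⟨σ, rfl⟩
  have hF : Function.Injective F := fun x y h => mathieuHom_injective a₀ (congrArg Subtype.val h)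
  have h27 : Nat.card (syl3.map F) = 3 ^ (Nat.card S).factorization 3 := by
    rw [Subgroup.card_map_of_injective hF, card_syl3_eq, hcS,
      show (2 ^ 11 * 244823040 : ℕ) = 3 ^ 3 * 18570280960 by norm_num,
      Nat.factorization_mul (by norm_num) (by norm_num), Finsupp.add_apply,
      Nat.prime_three.factorization_pow, Finsupp.single_eq_same,
      Nat.factorization_eq_zero_of_not_dvd (show ¬ 3 ∣ 18570280960 by norm_num)]
    norm_num
  let P0 : Sylow 3 S := Sylow.ofCard (syl3.map F) h27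
  obtain ⟨k, hk⟩ := MulAction.exists_smul_eq S P0 (P.mapSurjective hf)
  have hk' : MulAut.conj k • (syl3.map F) = (P : Subgroup LL).map f :=
    congrArg (fun R : Sylow 3 S => (R : Subgroup S)) hk
  have hpre : ∀ x ∈ (P : Subgroup LL), ∃ σ ∈ syl3, k * F σ * k⁻¹ = f x := by
    intro x hx
    have h : f x ∈ MulAut.conj k • (syl3.map F) := hk' ▸ ⟨x, hx, rfl⟩
    obtain ⟨_, ⟨σ, hσ, rfl⟩, h2⟩ := Subgroup.mem_smul_pointwise_iff_exists _ _ _ |>.1 h
    exact ⟨σ, hσ, h2⟩
  have hpost : ∀ σ ∈ syl3, ∃ x ∈ (P : Subgroup LL), f x = k * F σ * k⁻¹ := by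
    intro σ hσ
    have h : k * F σ * k⁻¹ ∈ (P : Subgroup LL).map f :=
      hk' ▸ Subgroup.smul_mem_pointwise_smul _ (MulAut.conj k) _ ⟨σ, hσ, rfl⟩
    exact h
  set Zs := (Subgroup.center ↥(P : Subgroup LL)).map (P : Subgroup LL).subtype with hZs
  have hZmem : ∀ x : LL, x ∈ Zs ↔ x ∈ (P : Subgroup LL) ∧ ∀ y ∈ (P : Subgroup LL), x * y = y * x := by
    intro x
    constructor
    · rintro ⟨u, hu, rfl⟩
      exact ⟨u.2, fun y hy => congrArg Subtype.val (Subgroup.mem_center_iff.1 hu ⟨y, hy⟩).symm⟩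
    · rintro ⟨h1, h2⟩
      exact ⟨⟨x, h1⟩, Subgroup.mem_center_iff.2 fun y => Subtype.ext (h2 y y.2).symm, rfl⟩
  have hcent : ∀ x ∈ Zs, ∃ σ : M24, (σ = 1 ∨ σ = sigM ∨ σ = sigM * sigM) ∧ k * F σ * k⁻¹ = f x := by
    intro x hx
    obtain ⟨hxP, hxc⟩ := (hZmem x).1 hx
    obtain ⟨σ, hσ, e1⟩ := hpre x hxP
    refine ⟨σ, central_syl3 hσ fun τ hτ => hF ?_, e1⟩
    obtain ⟨y, hy, e2⟩ := hpost τ hτ
    have h3 := congrArg f (hxc y hy)
    rw [map_mul, map_mul, ← e1, e2] at h3
    rw [map_mul, map_mul]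
    have h4 := congrArg (fun u => k⁻¹ * u * k) h3
    simpa [mul_assoc] using h4
  have hZcard : Nat.card Zs ≤ 3 := by
    let T : Finset S := ({1, sigM, sigM * sigM} : Finset M24).image fun σ => k * F σ * k⁻¹
    refine (Nat.card_le_card_of_injective (α := ↥Zs) (β := T) (fun x => ⟨f x.1, ?_⟩) fun x y h => ?_).trans ?_
    · obtain ⟨σ, hσ, e1⟩ := hcent x x.2
      exact Finset.mem_image.2 ⟨σ, by simpa using hσ, e1⟩
    · have h' : f x.1 = f y.1 := congrArg Subtype.val h
      have := hinj (x.1⁻¹ * y.1) (mul_mem (inv_mem ((hZmem _).1 x.2).1) ((hZmem _).1 y.2).1)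
        (by rw [map_mul, map_inv, h', inv_mul_cancel])
      exact Subtype.ext (inv_mul_eq_one.1 this)
    · rw [Nat.card_eq_fintype_card, Fintype.card_coe]
      exact Finset.card_image_le.trans Finset.card_le_three
  have hYc : Nat.card YL = 3 := by
    rw [hYL, Nat.card_congr (Subgroup.subgroupOfEquivOfLe hY).toEquiv, hY3]
  have hYZ : YL = Zs := Subgroup.eq_of_le_of_card_ge hPY (hZcard.trans hYc.ge)
  constructor
  · obtain ⟨y, hy1⟩ : ∃ y : YL, y ≠ 1 := by
      haveI : Nontrivial YL := Finite.one_lt_card_iff_nontrivial.1 (by omega)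
      exact exists_ne 1
    obtain ⟨σ, hσ, e1⟩ := hcent y (hYZ ▸ y.2)
    obtain ⟨c, hcY, hcf⟩ : ∃ c ∈ YL, k * F sigM * k⁻¹ = f c := by
      rcases hσ with rfl | rfl | rfl
      · exfalso
        rw [map_one, mul_one, mul_inv_cancel] at e1
        exact hy1 (Subtype.ext (hinj y ((hZmem _).1 (hYZ ▸ y.2)).1 e1.symm))
      · exact ⟨y, y.2, e1⟩
      · refine ⟨(y : LL) * y, mul_mem y.2 y.2, ?_⟩
        rw [map_mul f, ← e1]
        conv_lhs => rw [show sigM = sigM * sigM * (sigM * sigM) by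
          rw [show sigM * sigM * (sigM * sigM) = sigM * (sigM * sigM) * sigM by simp only [mul_assoc],
            sigM_cube, one_mul]]
        rw [map_mul F]
        group
    obtain ⟨k', hk2⟩ := QuotientGroup.mk_surjective (k : Spor.Co1)
    refine ⟨inc c, k' * a₀⁻¹, ?_, ?_, ?_⟩
    · have hne : c ≠ 1 := by
        intro h
        rw [h, map_one, conj_eq_one_iff, ← map_one F] at hcf
        have := congrArg orderOf (hF hcf)
        rw [orderOf_sigM, orderOf_one] at this
        omega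
      refine orderOf_eq_prime ?_ fun h => hne (Subtype.ext (congrArg Subtype.val h :))
      have : (⟨c, hcY⟩ : YL) ^ 3 = 1 := by rw [← hYc]; exact pow_card_eq_one'
      exact Subtype.ext (congrArg (fun u : YL => ((u : LL) : G)) this)
    · symm
      refine Subgroup.eq_of_le_of_card_ge (Subgroup.zpowers_le.2 hcY) ?_
      rw [Nat.card_zpowers, hY3]
      refine ge_of_eq (orderOf_eq_prime ?_ fun h => ?_)
      · have : (⟨c, hcY⟩ : YL) ^ 3 = 1 := by rw [← hYc]; exact pow_card_eq_one'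
        exact congrArg (fun u : YL => ((u : LL) : G)) this
      · have h1 : c = 1 := Subtype.ext h
        rw [h1, map_one, conj_eq_one_iff, ← map_one F] at hcf
        have := congrArg orderOf (hF hcf)
        rw [orderOf_sigM, orderOf_one] at this
        omega
    · have h := congrArg Subtype.val hcf
      refine h.symm.trans ?_
      show (k : Spor.Co1) * mathieuHom a₀ sigM * (k : Spor.Co1)⁻¹ = _
      rw [← hk2]
      show QuotientGroup.mk k' * QuotientGroup.mk (a₀⁻¹ * Leech.permHom sigM * a₀⁻¹⁻¹) * (QuotientGroup.mk k')⁻¹ =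
        (QuotientGroup.mk (k' * a₀⁻¹ * g0 * (k' * a₀⁻¹)⁻¹) : Spor.Co1)
      rw [← QuotientGroup.mk_inv, ← QuotientGroup.mk_mul, ← QuotientGroup.mk_mul]
      refine congrArg _ ?_
      rw [g0]; group
  · obtain ⟨a, haz, has⟩ := exists_cycle M hs
    rw [← hW] at haz has
    have hanorm : ∀ x ∈ LL, a * x * a⁻¹ ∈ LL := by
      intro x hx
      obtain ⟨hx1, hx2⟩ := (hLmem x).1 hx
      have c1 : Commute (a * x * a⁻¹) W := by
        have := (show Commute x z from hx1).map (MulAut.conj a).toMonoidHom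
        simpa [haz] using this
      have c2 : Commute (a * x * a⁻¹) (z * W) := by
        have := (show Commute x W from hx2).map (MulAut.conj a).toMonoidHom
        simpa [has] using this
      have c3 : Commute (a * x * a⁻¹) z := by
        have := c2.mul_right c1.inv_right
        rwa [mul_inv_cancel_right] at this
      exact (hLmem _).2 ⟨c3, c1⟩
    let φ : LL →* LL := MonoidHom.mk' (fun x => ⟨a * x * a⁻¹, hanorm x x.2⟩) fun x y => by
      apply Subtype.ext
      show a * ((x : G) * y) * a⁻¹ = a * x * a⁻¹ * (a * y * a⁻¹)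
      group
    have hφ : Function.Injective φ := fun x y h => by
      have : a * (x : G) * a⁻¹ = a * y * a⁻¹ := congrArg Subtype.val h
      exact Subtype.ext (mul_left_cancel (mul_right_cancel this))
    let P' : Sylow 3 LL := Sylow.ofCard ((P : Subgroup LL).map φ)
      (by rw [Subgroup.card_map_of_injective hφ, P.card_eq_multiplicity])
    obtain ⟨l, hl⟩ := MulAction.exists_smul_eq LL P' P
    have hl' : MulAut.conj l • (P : Subgroup LL).map φ = P := congrArg (fun R : Sylow 3 LL => (R : Subgroup LL)) hl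
    have hmapP : ∀ x ∈ (P : Subgroup LL), l * φ x * l⁻¹ ∈ (P : Subgroup LL) := by
      intro x hx
      have h := Subgroup.smul_mem_pointwise_smul (φ x) (MulAut.conj l) _ (Subgroup.mem_map_of_mem φ hx)
      rw [hl'] at h
      exact h
    have hsurj : ∀ y ∈ (P : Subgroup LL), ∃ x ∈ (P : Subgroup LL), l * φ x * l⁻¹ = y := by
      intro y hy
      rw [← hl'] at hy
      obtain ⟨_, ⟨x, hx, rfl⟩, e2⟩ := Subgroup.mem_smul_pointwise_iff_exists _ _ _ |>.1 hy
      exact ⟨x, hx, e2⟩
    set a' := (l : G) * a with ha'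
    have hnorm : ∀ x ∈ Y, a' * x * a'⁻¹ ∈ Y := by
      intro x hx
      have hxY : (⟨x, hY hx⟩ : LL) ∈ YL := hx
      rw [hYZ, hZmem] at hxY
      have hm : l * φ ⟨x, hY hx⟩ * l⁻¹ ∈ YL := by
        rw [hYZ, hZmem]
        refine ⟨hmapP _ hxY.1, fun y hy => ?_⟩
        obtain ⟨u, hu, rfl⟩ := hsurj y hy
        calc l * φ ⟨x, hY hx⟩ * l⁻¹ * (l * φ u * l⁻¹) = l * φ (⟨x, hY hx⟩ * u) * l⁻¹ := by
              rw [map_mul]; group
          _ = l * φ (u * ⟨x, hY hx⟩) * l⁻¹ := by rw [hxY.2 u hu]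
          _ = _ := by rw [map_mul]; group
      change (l : G) * (a * x * a⁻¹) * (l : G)⁻¹ ∈ Y at hm
      rwa [show (l : G) * a * x * ((l : G) * a)⁻¹ = (l : G) * (a * x * a⁻¹) * (l : G)⁻¹ by group]
    obtain ⟨hlz, hls⟩ := (hLmem _).1 l.2
    have hlz' : (l : G) * z * (l : G)⁻¹ = z := by rw [hlz, mul_inv_cancel_right]
    have hls' : (l : G) * W * (l : G)⁻¹ = W := by rw [hls, mul_inv_cancel_right]
    have e1 : a' * z * a'⁻¹ = W := by
      rw [ha', show (l : G) * a * z * ((l : G) * a)⁻¹ = (l : G) * (a * z * a⁻¹) * (l : G)⁻¹ by group, haz, hls']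
    have e2 : a' * W * a'⁻¹ = z * W := by
      rw [ha', show (l : G) * a * W * ((l : G) * a)⁻¹ = (l : G) * (a * W * a⁻¹) * (l : G)⁻¹ by group, has,
        show (l : G) * (z * W) * (l : G)⁻¹ = ((l : G) * z * (l : G)⁻¹) * ((l : G) * W * (l : G)⁻¹) by group,
        hlz', hls']
    have h2 := MonsterCent3.pow_pred_mem_centralizer Nat.prime_three hY3 hnorm
    refine ⟨_, h2, M.zQ * s, fun h => ?_, ?_⟩
    · have : s = 1 := mul_left_cancel (h.trans (mul_one _).symm)
      exact M.not_mem_center (by norm_num) (by norm_num) hs (M.mem_center_iff.2 (Or.inl this))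
    · show a' ^ (3 - 1) * z * (a' ^ (3 - 1))⁻¹ = z * W
      rw [show a' ^ (3 - 1) * z * (a' ^ (3 - 1))⁻¹ = a' * (a' * z * a'⁻¹) * a'⁻¹ by
        rw [show (3 - 1 : ℕ) = 2 from rfl, pow_two]; group, e1, e2]

end Cfsg.Agent.MonsterFi58
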