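import Cfsg.Agent.MonsterFi58.Act
import Cfsg.Agent.MonsterCent3.Data

/-!
The quotient of the centralizer by the element and the centre: three, `PSU₄(3)`, two.
-/

set_option autoImplicit false
set_option maxRecDepth 100000

namespace Cfsg.Agent.MonsterFi58

open Cfsg Cfsg.Agent.Leech Cfsg.Agent.Four95
open Cfsg.Agent.SporStruct CoMatrix
open Cfsg.Agent.Golay (pt idx idx_lt pt_idx idx_pt)

/-- The elements keeping the first basis vector up to sign. -/
noncomputable def lineStab : Subgroup C0 where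
  carrier := {g | (g : Co0) • bv 0 = bv 0 ∨ (g : Co0) • bv 0 = -bv 0}
  one_mem' := Or.inl (one_smul _ _)
  mul_mem' := by
    rintro g h (a | a) (b | b) <;> simp only [Set.mem_ofPred_eq, Subgroup.coe_mul, mul_smul, b, smul_neg', a,
      neg_neg, true_or, or_true]
  inv_mem' := by
    rintro g (a | a)
    · exact Or.inl (inv_smul_eq_iff.2 a.symm)
    · refine Or.inr (inv_smul_eq_iff.2 ?_)
      rw [smul_neg', a, neg_neg]

/-- The subgroup generated by the element and the negative of the identity. -/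
noncomputable def K2 : Subgroup C0 := piP.ker ⊓ lineStab

/-- An element of the small subgroup from two exponents. -/
noncomputable def smallEl (x : Fin 3 × Bool) : C0 := kerEl (x.1, 0, x.2)

theorem smallEl_mem (x : Fin 3 × Bool) : smallEl x ∈ K2 := by
  refine ⟨kerEl_mem _, ?_⟩
  show _ ∨ _
  rw [smallEl, kerEl_smul, sixImg, Fin.val_zero, pow_zero, one_smul]
  obtain ⟨i, e⟩ := x
  cases e
  exacts [Or.inl rfl, Or.inr rfl]

theorem exists_smallEl {g : C0} (hg : g ∈ K2) : ∃ x, smallEl x = g := by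
  obtain ⟨h1, h2⟩ := hg
  obtain ⟨⟨i, j, e⟩, rfl⟩ := exists_kerEl h1
  have h3 : ∃ d, (kerEl (i, j, e) : Co0) • bv 0 = sixImg 0 d := by
    rcases h2 with h | h
    · exact ⟨false, by rw [h, sixImg, Fin.val_zero, pow_zero, one_smul]; rfl⟩
    · exact ⟨true, by rw [h, sixImg, Fin.val_zero, pow_zero, one_smul]; rfl⟩
  obtain ⟨d, hd⟩ := h3
  rw [kerEl_smul] at hd
  obtain ⟨rfl, -⟩ := sixImg_inj _ _ _ _ hd
  exact ⟨(i, e), rfl⟩

theorem commute_smallEl (x : Fin 3 × Bool) (g : C0) : Commute g (smallEl x) := by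
  have h1 : Commute g g0C := Subtype.ext (Subgroup.mem_centralizer_singleton_iff.1 g.2)
  have h2 : Commute g negC0 := Subtype.ext (Subgroup.mem_center_iff.1 negOne_mem_center g.1)
  rw [smallEl, kerEl, Fin.val_zero, pow_zero, mul_one]
  refine (h1.pow_right _).mul_right ?_
  split_ifs
  exacts [h2, Commute.one_right _]

instance : K2.Normal :=
  ⟨fun n hn g => by
    obtain ⟨x, rfl⟩ := exists_smallEl hn
    rw [(commute_smallEl x g).eq, mul_inv_cancel_right]
    exact smallEl_mem x⟩

theorem card_K2 : Nat.card K2 = 6 := by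
  have hb : Function.Bijective fun x => (⟨smallEl x, smallEl_mem x⟩ : K2) := by
    refine ⟨fun x y h => ?_, fun g => ?_⟩
    · have := kerEl_injective (congrArg Subtype.val h)
      simp only [Prod.mk.injEq, true_and] at this
      exact Prod.ext this.1 this.2
    · obtain ⟨x, hx⟩ := exists_smallEl g.2
      exact ⟨x, Subtype.ext hx⟩
  rw [← Nat.card_eq_of_bijective _ hb]
  simp

/-- The quotient. -/
abbrev LQ : Type := C0 ⧸ K2

/-- The permutations of the quotient. -/
noncomputable def piL : LQ →* Equiv.Perm (Fin 126) :=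
  QuotientGroup.lift K2 piP inf_le_left

theorem piL_mk (g : C0) : piL (QuotientGroup.mk g) = piP g := rfl

theorem range_piL : piL.range = RI := by
  rw [← card_facts.1]
  ext x
  constructor
  · rintro ⟨l, rfl⟩
    obtain ⟨g, rfl⟩ := QuotientGroup.mk_surjective l
    exact ⟨g, rfl⟩
  · rintro ⟨g, rfl⟩
    exact ⟨QuotientGroup.mk g, rfl⟩

/-- The normal subgroup of order three. -/
noncomputable abbrev NL : Subgroup LQ := piL.ker

/-- The normal subgroup of index two. -/
noncomputable def ML : Subgroup LQ := OI.comap piL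

theorem piL_mem (l : LQ) : piL l ∈ RI := range_piL ▸ ⟨l, rfl⟩

instance : ML.Normal :=
  ⟨fun n hn g => by
    show piL (g * n * g⁻¹) ∈ OI
    rw [map_mul, map_mul, map_inv]
    exact OI_conj (RI_le (piL_mem g)) hn⟩

theorem NL_le : NL ≤ ML := fun l hl => by
  show piL l ∈ OI
  rw [MonoidHom.mem_ker.1 hl]
  exact one_mem _

theorem card_NL : Nat.card NL = 3 := by
  have : Finite Co0 := Monster39.finiteCo0
  let f : piP.ker →* LQ := (QuotientGroup.mk' K2).comp piP.ker.subtype
  have hr : f.range = NL := by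
    ext l
    constructor
    · rintro ⟨g, rfl⟩
      exact g.2
    · intro h
      obtain ⟨g, rfl⟩ := QuotientGroup.mk_surjective l
      exact ⟨⟨g, h⟩, rfl⟩
  have hk : f.ker = K2.subgroupOf piP.ker := by
    ext g
    exact QuotientGroup.eq_one_iff _
  have h := Subgroup.card_eq_card_quotient_mul_card_subgroup f.ker
  rw [Nat.card_congr (QuotientGroup.quotientKerEquivRange f).toEquiv, hr, card_facts.2, hk,
    Nat.card_congr (Subgroup.subgroupOfEquivOfLe (H := K2) (K := piP.ker) inf_le_left).toEquiv,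
    card_K2] at h
  omega

theorem index_ML : ML.index = 2 := by
  rw [ML, Subgroup.index_comap, range_piL]
  have h := (OI.subgroupOf RI).card_mul_index
  rw [Nat.card_congr (Subgroup.subgroupOfEquivOfLe OI_le).toEquiv, card_OI, card_RI] at h
  change (OI.subgroupOf RI).index = 2
  omega

theorem quot_iso : Nonempty (ML ⧸ NL.subgroupOf ML ≃* Cfsg.PSU 4 (GaloisField 3 2) 3) := by
  obtain ⟨e⟩ := OI_iso
  let f : ML →* OI := (piL.comp ML.subtype).codRestrict OI fun m => m.2
  have hs : Function.Surjective f := fun x => by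
    have hx : (x : Equiv.Perm (Fin 126)) ∈ piL.range := range_piL ▸ OI_le x.2
    obtain ⟨l, hl⟩ := hx
    exact ⟨⟨l, show piL l ∈ OI by rw [hl]; exact x.2⟩, Subtype.ext hl⟩
  have hk : f.ker = NL.subgroupOf ML := by
    ext m
    rw [MonoidHom.mem_ker, Subgroup.mem_subgroupOf, MonoidHom.mem_ker, ← Subtype.val_inj]
    rfl
  exact ⟨((QuotientGroup.quotientMulEquivOfEq hk.symm).trans
    (QuotientGroup.quotientKerEquivOfSurjective f hs)).trans e⟩

theorem nbhd_check : ((List.range 126).all fun p => (List.range 126).all fun q =>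
    p == q || !adj6 p q || (List.range 126).any fun r => r != q && adj6 p r && !adj6 q r) = true := by
  decide +kernel

theorem sigma_injective : Function.Injective sigma := by
  intro p q h
  by_contra hpq
  cases ha : adj6 p q
  · exact sigma_move hpq ha (by rw [h]; exact sigma_fix (Or.inl rfl))
  · have hc := List.all_eq_true.1 (List.all_eq_true.1 nbhd_check p (List.mem_range.2 p.2)) q
      (List.mem_range.2 q.2)
    simp only [Bool.or_eq_true, beq_iff_eq, Bool.not_eq_true', ha, Bool.true_eq_false, or_false,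
      List.any_eq_true, List.mem_range, Bool.and_eq_true, bne_iff_ne] at hc
    rcases hc with hc | ⟨r, hr, ⟨hrq, hpr⟩, hqr⟩
    · exact hpq (Fin.ext hc)
    · refine sigma_move (q := ⟨r, hr⟩) (fun e => hrq (congrArg Fin.val e).symm) hqr ?_
      rw [← h]
      exact sigma_fix (Or.inr hpr)

theorem noTwo (X : Subgroup LQ) (hX : X.Normal) (h2 : IsPGroup 2 X) : X = ⊥ := by
  have : Finite Co0 := Monster39.finiteCo0
  have : Finite LQ := Quotient.finite _
  set Y := X.map piL with hY
  have hY2 : IsPGroup 2 Y := h2.map piL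
  have hconj : ∀ x ∈ RI, ∀ y ∈ Y, x * y * x⁻¹ ∈ Y := by
    rintro x hx _ ⟨u, hu, rfl⟩
    obtain ⟨l, rfl⟩ : x ∈ piL.range := range_piL ▸ hx
    exact ⟨l * u * l⁻¹, hX.conj_mem u hu l, by simp⟩
  have hbot : ∀ y ∈ Y, y ∈ OI → y = 1 := by
    intro y hy hyO
    have : IsSimpleGroup OI := OI_simple
    have hn : (Y.subgroupOf OI).Normal := ⟨fun n hn g => hconj _ (OI_le g.2) _ hn⟩
    rcases hn.eq_bot_or_eq_top with h | h
    · have : (⟨y, hyO⟩ : OI) ∈ Y.subgroupOf OI := hy
      rw [h, Subgroup.mem_bot] at this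
      exact congrArg Subtype.val this
    · exfalso
      have hle : OI ≤ Y := Subgroup.subgroupOf_eq_top.1 h
      obtain ⟨n, hn⟩ := (hY2.to_le hle).exists_card_eq
      rw [card_OI] at hn
      have : 3 ∣ 2 ^ n := hn ▸ by norm_num
      exact absurd (Nat.prime_three.dvd_of_dvd_pow this) (by norm_num)
  have hYbot : ∀ y ∈ Y, y = 1 := by
    intro y hy
    by_contra hy1
    have hyR : y ∈ RI := by
      obtain ⟨u, -, rfl⟩ := hy
      exact piL_mem u
    have hi : (OI.subgroupOf RI).index = 2 := by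
      have h := (OI.subgroupOf RI).card_mul_index
      rw [Nat.card_congr (Subgroup.subgroupOfEquivOfLe OI_le).toEquiv, card_OI, card_RI] at h
      omega
    have hcomm : ∀ x ∈ RI, x * y * x⁻¹ = y := by
      intro x hx
      set w := x * y * x⁻¹ with hw
      have hwY := hconj x hx y hy
      have hw1 : w ≠ 1 := fun e => hy1 (conj_eq_one_iff.1 e)
      have hmem : (⟨w, hconj x hx y hy |> fun _ => mul_mem (mul_mem hx hyR) (inv_mem hx)⟩ : RI) *
          ⟨y, hyR⟩⁻¹ ∈ OI.subgroupOf RI := by
        rw [Subgroup.mul_mem_iff_of_index_two hi, inv_mem_iff]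
        exact iff_of_false (fun h => hw1 (hbot w hwY h)) fun h => hy1 (hbot y hy h)
      exact mul_inv_eq_one.1 (hbot _ (mul_mem hwY (inv_mem hy)) hmem)
    refine hy1 (Equiv.ext fun p => ?_)
    obtain ⟨g, hg, hgy⟩ : y ∈ (Cfsg.reflectionSubgroup (⇑Q6) 1).map rho := hyR
    have h := sigma_conj g p
    rw [hgy] at h
    have h2 := hcomm _ (sigma_mem p)
    rw [Equiv.Perm.one_apply]
    refine sigma_injective (h.symm.trans ?_)
    rw [mul_inv_eq_iff_eq_mul] at h2 ⊢
    exact h2.symm
  have hle : X ≤ NL := fun x hx => MonoidHom.mem_ker.2 (hYbot _ ⟨x, hx, rfl⟩)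
  obtain ⟨n, hn⟩ := h2.exists_card_eq
  have hd := Subgroup.card_dvd_of_le hle
  rw [card_NL, hn] at hd
  rcases (Nat.dvd_prime Nat.prime_three).1 hd with h | h
  · exact Subgroup.card_eq_one.1 (hn.trans h)
  · exact absurd (Nat.prime_three.dvd_of_dvd_pow (h ▸ dvd_rfl : 3 ∣ 2 ^ n)) (by norm_num)

theorem basis_check : ((List.range 12).all fun i => dotL (basT.getD i []) (basT.getD i []) == 32 &&
    !(dotL (basT.getD i []) (basT.getD ([0, 0, 0, 0, 0, 0, 0, 0, 0, 0, 2, 0].getD i 0) []) == 0)) = true := by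
  decide +kernel

theorem repV_single (i : Fin 12) : repV (fun j => decide (j = i)) = bv i := by
  simp [repV, comb12, ite_smul]

theorem faithful_aux (g : C0)
    (h : ∀ i, Cong (((g : Co0) • bv i : leechLattice) : GolayPt → ℤ) (bv i : GolayPt → ℤ)) : g ∈ K2 := by
  have hb : ∀ i : Fin 12, dotInt (bv i : GolayPt → ℤ) (bv i : GolayPt → ℤ) = 32 ∧
      dotInt (bv i : GolayPt → ℤ)
        (bv (⟨[0, 0, 0, 0, 0, 0, 0, 0, 0, 0, 2, 0].getD (i : ℕ) 0, by revert i; decide⟩ : Fin 12) :
          GolayPt → ℤ) ≠ 0 := by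
    intro i
    have h := List.all_eq_true.1 basis_check i (List.mem_range.2 i.2)
    simp only [Bool.and_eq_true, beq_iff_eq, Bool.not_eq_true', beq_eq_false_iff_ne] at h
    rw [LeechUnitary.Cert.dotInt_vecL, LeechUnitary.Cert.dotInt_vecL, vecL_bv, vecL_bv]
    exact h
  have hpm : ∀ i, (g : Co0) • bv i = bv i ∨ (g : Co0) • bv i = -bv i := by
    intro i
    have hn : sqNorm (bv i : GolayPt → ℤ) = 32 := by rw [← dotInt_self, (hb i).1]
    rcases cong_cases noRoots ((g : Co0) • bv i).2 (by rw [sqNorm_smul, hn]; norm_num)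
      (by rw [hn]; norm_num) (h i) with e | e | ⟨-, e, -⟩
    · exact Or.inl (Subtype.ext e)
    · exact Or.inr (Subtype.ext e)
    · omega
  have hlink : ∀ i j, dotInt (bv i : GolayPt → ℤ) (bv j : GolayPt → ℤ) ≠ 0 →
      (g : Co0) • bv j = bv j → (g : Co0) • bv i = bv i := by
    intro i j hij hj
    rcases hpm i with e | e
    · exact e
    · exfalso
      have := dotInt_smul (g : Co0) (bv i) (bv j)
      rw [e, hj, AddSubgroup.coe_neg, Cfsg.dotInt_neg_left] at this
      omega
  have hlink' : ∀ i j, dotInt (bv i : GolayPt → ℤ) (bv j : GolayPt → ℤ) ≠ 0 →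
      (g : Co0) • bv j = -bv j → (g : Co0) • bv i = -bv i := by
    intro i j hij hj
    rcases hpm i with e | e
    · exfalso
      have := dotInt_smul (g : Co0) (bv j) (bv i)
      rw [e, hj, AddSubgroup.coe_neg, Cfsg.dotInt_neg_left, dotInt_comm] at this
      omega
    · exact e
  have hall : (∀ i, (g : Co0) • bv i = bv i) ∨ ∀ i, (g : Co0) • bv i = -bv i := by
    have hpar : ∀ i : Fin 12,
        (⟨[0, 0, 0, 0, 0, 0, 0, 0, 0, 0, 2, 0].getD (i : ℕ) 0, by revert i; decide⟩ : Fin 12) = 0 ∨
          (i = 10 ∧ (⟨[0, 0, 0, 0, 0, 0, 0, 0, 0, 0, 2, 0].getD (i : ℕ) 0, by revert i; decide⟩ : Fin 12) = 2) := by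
      decide
    rcases hpm 0 with h0 | h0
    · refine Or.inl fun i => hlink i _ (hb i).2 ?_
      rcases hpar i with e | ⟨-, e⟩ <;> rw [e]
      · exact h0
      · exact hlink 2 _ (hb 2).2 h0
    · refine Or.inr fun i => hlink' i _ (hb i).2 ?_
      rcases hpar i with e | ⟨-, e⟩ <;> rw [e]
      · exact h0
      · exact hlink' 2 _ (hb 2).2 h0
  refine ⟨?_, hpm 0⟩
  show piP g = 1
  refine Equiv.ext fun p => ?_
  have hv := fix_liftV (vec p)
  rcases hall with ha | ha
  · have e : ∀ v, IsFix v → (g : Co0) • v = v := fun v hv => by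
      show hom (g : Co0) v = v
      rw [expand hv, comb12, map_sum]
      exact Finset.sum_congr rfl fun i _ => by
        rw [map_zsmul]; exact congrArg _ (ha i)
    refine rho_eq (Or.inl ?_)
    show Reflections.act (rho0 g) (vec p) = vec p
    conv_lhs => rw [← phi_liftV (vec p), act_rho0 g hv, e _ hv, phi_liftV]
  · have e : ∀ v, IsFix v → (g : Co0) • v = -v := fun v hv => by
      show hom (g : Co0) v = -v
      rw [expand hv, comb12, map_sum, ← Finset.sum_neg_distrib]
      exact Finset.sum_congr rfl fun i _ => by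
        rw [map_zsmul, ← smul_neg]; exact congrArg _ (ha i)
    refine rho_eq (Or.inr ?_)
    show Reflections.act (rho0 g) (vec p) = -vec p
    conv_lhs => rw [← phi_liftV (vec p), act_rho0 g hv, e _ hv]
    exact ((AddMonoidHom.mk' phi phi_add).map_neg _).trans (congrArg Neg.neg (phi_liftV _))

/-- The data for the general argument. -/
noncomputable def centData : MonsterCent3.CentData g0 LQ 4096 where
  r i := repV ((Fintype.equivFinOfCardEq (α := Fin 12 → Bool) (by simp)).symm i)
  fixed i := by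
    show Cong _ _
    have e : ∀ x, IsFix (repV x) := fun x => fix_comb _
    rw [show g0 • repV _ = repV _ from e _]
    exact Cong.refl _
  distinct i j h := (Fintype.equivFinOfCardEq (α := Fin 12 → Bool) (by simp)).symm.injective (repV_inj h)
  complete v h := by
    obtain ⟨x, hx⟩ := exists_repV h
    exact ⟨_, by rw [Equiv.symm_apply_apply]; exact hx⟩
  π := QuotientGroup.mk' K2
  surj := QuotientGroup.mk'_surjective K2
  ker g hg := by
    obtain ⟨⟨i, e⟩, rfl⟩ := exists_smallEl ((QuotientGroup.eq_one_iff g).1 hg)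
    refine ⟨((i : ℕ) : ℤ), ?_⟩
    show (QuotientGroup.mk g0 : Spor.Co1) ^ ((i : ℕ) : ℤ) = _
    rw [zpow_natCast, ← QuotientGroup.mk_pow, QuotientGroup.eq, smallEl, kerEl]
    simp only [Fin.val_zero, pow_zero, mul_one, Subgroup.coe_mul, SubmonoidClass.coe_pow, g0C,
      inv_mul_cancel_left]
    cases e
    · exact one_mem _
    · exact negOne_mem_center
  map_self := by
    refine (QuotientGroup.eq_one_iff _).2 ⟨piP_g0C, Or.inl ?_⟩
    exact fix_bv 0
  map_center g hg := by
    refine (QuotientGroup.eq_one_iff _).2 ?_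
    rcases center_eq_or _ hg with e | e
    · rw [show g = 1 from Subtype.ext e]
      exact one_mem _
    · rw [show g = negC0 from Subtype.ext e]
      exact ⟨piP_negC0, Or.inr (negOne_smul _)⟩
  faithful g hg := by
    refine (QuotientGroup.eq_one_iff _).2 (faithful_aux g fun i => ?_)
    have := hg (Fintype.equivFinOfCardEq (α := Fin 12 → Bool) (by simp) fun j => decide (j = i))
    rwa [Equiv.symm_apply_apply, repV_single] at this

end Cfsg.Agent.MonsterFi58
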