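import Cfsg.Agent.MonsterFi58.Fix
import Cfsg.Agent.Lib.Leech.CodeUnique

/-!
At most 1701 classes mod 2 fixed by the element of order three hold vectors of squared length 64.
-/

set_option autoImplicit false
set_option maxRecDepth 1000000

namespace Cfsg.Agent.MonsterFi58

open Cfsg Cfsg.Agent.Leech
open Cfsg.Agent.SporStruct CoMatrix
open Cfsg.Agent.Golay (pt idx idx_lt pt_idx idx_pt)

/-- A coefficient of an entry. -/
def dc (n i : ℕ) : ℤ := ((n / 2 ^ (5 * i) % 32 : ℕ) : ℤ) - 16

/-- The combination of an entry. -/
def rowOf (n : ℕ) : List ℤ := combR ((List.range 12).map (dc n)) basT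

/-- The class of an entry. -/
def xcode (n : ℕ) : Fin 12 → Bool := fun i => n.testBit (5 * i)

/-- A class as a number. -/
def natOf (x : Fin 12 → Bool) : ℕ :=
  (List.finRange 12).foldr (fun i r => (if x i then 1 else 0) + 2 * r) 0

/-- Strictly increasing, above the bound. -/
def incr : ℕ → List ℕ → Bool
  | _, [] => true
  | k, n :: l => decide (k < n) && incr n l

theorem incr_spec : ∀ (k : ℕ) (l : List ℕ), incr k l = true → l.Nodup ∧ ∀ n ∈ l, k < n
  | _, [], _ => by simp
  | k, n :: l, h => by
    simp only [incr, Bool.and_eq_true, decide_eq_true_eq] at h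
    obtain ⟨h1, h2⟩ := incr_spec n l h.2
    refine ⟨List.nodup_cons.2 ⟨fun hn => (h2 n hn).false, h1⟩, fun m hm => ?_⟩
    rcases List.mem_cons.1 hm with rfl | hm
    · exact h.1
    · exact h.1.trans (h2 m hm)

/-- An entry has squared length 32 or 48. -/
def okNorm (n : ℕ) : Bool := let r := rowOf n; let d := dotL r r; d == 32 || d == 48

theorem short_norms0 : short0.all okNorm = true := by decide +kernel

theorem short_norms1 : short1.all okNorm = true := by decide +kernel

theorem short_norms2 : short2.all okNorm = true := by decide +kernel

theorem short_norms3 : short3.all okNorm = true := by decide +kernel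

theorem short_norms4 : short4.all okNorm = true := by decide +kernel

theorem short_norms5 : short5.all okNorm = true := by decide +kernel

theorem short_norms6 : short6.all okNorm = true := by decide +kernel

theorem short_norms7 : short7.all okNorm = true := by decide +kernel

theorem short_norms8 : short8.all okNorm = true := by decide +kernel

theorem short_norms9 : short9.all okNorm = true := by decide +kernel

theorem short_norms : shortT.all okNorm = true := by
  simp only [shortT, List.all_append, short_norms0, short_norms1, short_norms2, short_norms3, short_norms4, short_norms5, short_norms6, short_norms7, short_norms8, short_norms9, Bool.and_self]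

theorem short_codes : incr 0 (shortT.map fun n => natOf (xcode n)) = true ∧ shortT.length = 2394 := by
  decide +kernel

theorem bas_rows : basT = (List.range 12).map fun i => (List.range 24).map fun k =>
    (basT.getD i []).getD k 0 := by decide +kernel

/-- The vector of an entry. -/
noncomputable def shortV (n : ℕ) : leechLattice := comb12 fun i => dc n i

theorem sqNorm_shortV {n : ℕ} (hn : n ∈ shortT) :
    sqNorm (shortV n : GolayPt → ℤ) = 32 ∨ sqNorm (shortV n : GolayPt → ℤ) = 48 := by
  have e : vecL (shortV n : GolayPt → ℤ) = rowOf n := by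
    rw [rowOf, bas_rows, combR_map, vecL]
    refine range_map_congr fun k hk => ?_
    simp only [shortV, comb12, AddSubgroup.val_finsetSum, Finset.sum_apply, AddSubgroup.coe_zsmul,
      Pi.smul_apply, smul_eq_mul, coe_bv, vecP, idx_pt hk]
    exact Fin.sum_univ_eq_sum_range (fun i => dc n i * (basT.getD i []).getD k 0) 12
  have h := List.all_eq_true.1 short_norms n hn
  simp only [okNorm, Bool.or_eq_true, beq_iff_eq, ← e, ← LeechUnitary.Cert.dotInt_vecL, dotInt_self] at h
  exact h

theorem cls_shortV (n : ℕ) : cls12 (shortV n) = xcode n := by
  funext i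
  simp only [cls12, shortV, cf_comb, xcode, dc, Nat.testBit_eq_decide_div_mod_eq, decide_eq_decide]
  omega

/-- The classes without vectors of squared length 64. -/
noncomputable def smallX : Finset (Fin 12 → Bool) :=
  insert (fun _ => false) (shortT.map xcode).toFinset

theorem card_smallX : smallX.card = 2395 := by
  obtain ⟨hnd, hpos⟩ := incr_spec _ _ short_codes.1
  have hnd' : (shortT.map xcode).Nodup := List.Nodup.of_map natOf (by rwa [List.map_map])
  rw [smallX, Finset.card_insert_of_notMem, List.toFinset_card_of_nodup hnd', List.length_map,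
    short_codes.2]
  rw [List.mem_toFinset, List.mem_map]
  rintro ⟨n, hn, e⟩
  have := hpos _ (List.mem_map.2 ⟨n, hn, rfl⟩)
  rw [e] at this
  exact absurd this (by decide)

theorem code_notMem {v : leechLattice} (hv : IsFix v) (h64 : sqNorm (v : GolayPt → ℤ) = 64) :
    cls12 v ∉ smallX := by
  have key : ∀ u : leechLattice, IsFix u → sqNorm (u : GolayPt → ℤ) < 64 → cls12 v ≠ cls12 u :=
    fun u hu hlt e => by
      have := sqNorm_eq_of_cong noRoots v.2 h64.le hlt.le ((cls_eq_iff hv hu).1 e)
      omega
  rw [smallX, Finset.mem_insert, List.mem_toFinset, List.mem_map]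
  rintro (e | ⟨n, hn, e⟩)
  · refine key 0 (show g0 • (0 : leechLattice) = 0 from map_zero (hom g0)) (by simp [sqNorm]) (e.trans (funext fun i => ?_))
    have h0 : cf i 0 = 0 := map_zero (cfHom i)
    simp [cls12, h0]
  · refine key (shortV n) (fix_comb _) ?_ (by rw [cls_shortV, e])
    rcases sqNorm_shortV hn with h | h <;> omega

end Cfsg.Agent.MonsterFi58
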